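import Groth.Agent.EtAcycFibLib.Range
import Groth.Agent.LcRepLib.Punct
import Groth.Agent.EtShLib.ConstSheaf
import Groth.Agent.ConstHLib.Basic
import Groth.Agent.EtContLib.Cohom

/-!
# Sections of constant sheaves descend along morphisms with connected fibres lifting generalisations
-/

set_option autoImplicit false
set_option linter.all false
set_option backward.isDefEq.respectTransparency false
set_option backward.isDefEq.respectTransparency.types false
set_option synthInstance.maxHeartbeats 400000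
set_option maxHeartbeats 2000000

universe u

open CategoryTheory CategoryTheory.Limits CategoryTheory.Abelian AlgebraicGeometry Opposite DescSecLib
open Groth.Agent Groth.Agent.EtShLib EtSliceLib EtAcycLib

noncomputable section

namespace EtAcycFibLib

attribute [local instance] EtSliceLib.pullExact

section Top

theorem isClosed_range_of_affine {Z Y : Scheme.{u}} [IsAffine Z] [IsAffine Y] (h : Z ⟶ Y)
    (hs : StableUnderSpecialization (Set.range h.base)) : IsClosed (Set.range h.base) := by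
  let H : Y ≃ₜ Spec Γ(Y, ⊤) := TopCat.homeoOfIso (Scheme.forgetToTop.mapIso Y.isoSpec)
  let H' : Z ≃ₜ Spec Γ(Z, ⊤) := TopCat.homeoOfIso (Scheme.forgetToTop.mapIso Z.isoSpec)
  have e : H '' Set.range h.base = Set.range (PrimeSpectrum.comap h.appTop.hom) := by
    rw [← Set.range_comp]
    have hc : (⇑H ∘ ⇑h.base) = PrimeSpectrum.comap h.appTop.hom ∘ ⇑H' :=
      funext fun z => (congrArg (fun t : Z ⟶ Spec Γ(Y, ⊤) => t.base z) (Scheme.isoSpec_hom_naturality h)).symm
    rw [hc, Set.range_comp, H'.surjective.range_eq, Set.image_univ]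
  have hc : IsClosed (H '' Set.range h.base) := by
    rw [e]
    refine PrimeSpectrum.isClosed_range_of_stableUnderSpecialization _ ?_
    rw [← e]
    rintro a b hab ⟨a', ha', rfl⟩
    refine ⟨H.symm b, hs ?_ ha', H.apply_symm_apply b⟩
    have := hab.map H.symm.continuous
    rwa [H.symm_apply_apply] at this
  exact (H.isClosed_image).1 hc

variable {X Y : Scheme.{u}} (g : X ⟶ Y) [IsAffine Y] [CompactSpace X]

theorem isClosed_image_of_stable (U : X.Opens) (hU : IsCompact (U : Set X))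
    (hs : StableUnderSpecialization (g.base '' U)) : IsClosed (g.base '' (U : Set X)) := by
  haveI : CompactSpace U.toScheme := isCompact_iff_compactSpace.1 hU
  let 𝒰 := U.toScheme.affineCover.finiteSubcover
  let p : (∐ fun i => 𝒰.X i) ⟶ U.toScheme := Sigma.desc fun i => 𝒰.f i
  have hp : Set.range (p ≫ U.ι ≫ g).base = g.base '' (U : Set X) := by
    ext y
    constructor
    · rintro ⟨z, rfl⟩
      exact ⟨(U.ι.base (p.base z)), (p.base z).2, rfl⟩
    · rintro ⟨x, hx, rfl⟩
      obtain ⟨i, z, hz⟩ := 𝒰.exists_eq (⟨x, hx⟩ : U.toScheme)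
      refine ⟨(Sigma.ι (fun i => 𝒰.X i) i).base z, ?_⟩
      show (Sigma.ι (fun i => 𝒰.X i) i ≫ p ≫ U.ι ≫ g).base z = _
      rw [Sigma.ι_desc_assoc]
      exact congrArg (fun t => g.base (U.ι.base t)) hz
  haveI : Finite 𝒰.I₀ := inferInstance
  haveI : ∀ i, IsAffine (𝒰.X i) := fun i => inferInstanceAs (IsAffine (Spec _))
  rw [← hp]
  exact isClosed_range_of_affine _ (by rwa [hp])

theorem isClopen_image (hsurj : Function.Surjective g.base) (hconn : ∀ y : Y, _root_.IsPreconnected (g.base ⁻¹' {y}))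
    (hgen : ∀ (x : X) (y' : Y), y' ⤳ g.base x → ∃ x' : X, x' ⤳ x ∧ g.base x' = y')
    (U : Set X) (hU : IsClopen U) : IsClopen (g.base '' U) ∧ g.base ⁻¹' (g.base '' U) = U := by
  have hfib : ∀ x x' : X, g.base x = g.base x' → x ∈ U → x' ∈ U := fun x x' e hx =>
    (hconn (g.base x)).subset_isClopen hU ⟨x, rfl, hx⟩ e.symm
  have hpre : g.base ⁻¹' (g.base '' U) = U :=
    Set.Subset.antisymm (fun x ⟨x', hx', e⟩ => hfib x' x e hx') (Set.subset_preimage_image _ _)
  have hcompl : g.base '' Uᶜ = (g.base '' U)ᶜ := by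
    ext y
    constructor
    · rintro ⟨x, hx, rfl⟩ ⟨x', hx', e⟩
      exact hx (hfib x' x e hx')
    · intro hy
      obtain ⟨x, rfl⟩ := hsurj y
      exact ⟨x, fun hx => hy ⟨x, hx, rfl⟩, rfl⟩
  have hg : ∀ V : Set X, IsOpen V → StableUnderGeneralization (g.base '' V) := by
    rintro V hV a b hab ⟨x, hx, rfl⟩
    obtain ⟨x', hx', e⟩ := hgen x b hab
    exact ⟨x', hx'.mem_open hV hx, e⟩
  have hcl : ∀ V : Set X, IsClopen V → g.base '' Vᶜ = (g.base '' V)ᶜ → IsClosed (g.base '' V) := fun V hV e => by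
    refine isClosed_image_of_stable g ⟨V, hV.2⟩ hV.1.isCompact ?_
    rw [← compl_compl (g.base '' _), stableUnderSpecialization_compl_iff]
    show StableUnderGeneralization (g.base '' V)ᶜ
    rw [← e]
    exact hg _ hV.1.isOpen_compl
  exact ⟨⟨hcl U hU hcompl, isClosed_compl_iff.1 (hcompl ▸ hcl Uᶜ hU.compl (by rw [compl_compl, hcompl, compl_compl]))⟩, hpre⟩

end Top

open ConstHLib

theorem constAdj_unit_eq (X : Scheme.{u}) (M : AddCommGrpCat.{u + 1}) :
    (EtCore.constAdj X).unit.app M = cstUnit X M := by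
  unfold EtCore.constAdj cstUnit
  simp [constantSheafAdj]

variable {Y : Scheme.{u}} (M : AddCommGrpCat.{u + 1})

theorem map_one_apply (f : Zu ⟶ M) :
    ((cS Y).map f).hom.app (op (EtCoh.top Y)) (etOneSec Y ⟨1⟩) = cstUnit Y M (f ⟨1⟩) := by
  have h := congrArg (fun t : Zu ⟶ _ => t (ULift.up 1)) (cstUnit_naturality (X := Y) f)
  refine Eq.trans ?_ h
  show _ = ((cS Y).map f).hom.app (op (EtCoh.top Y)) (cstUnit Y Zu ⟨1⟩)
  rw [← constAdj_unit_eq]
  rfl

theorem toConst_comp_ext (W : Y.Etale) (α β : (cS Y).obj Zu ⟶ (cS Y).obj M)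
    (h : ((cS Y).obj M).obj.map ((EtCore.topIsTerminal Y).from W).op (α.hom.app (op (EtCoh.top Y)) (etOneSec Y ⟨1⟩)) =
      ((cS Y).obj M).obj.map ((EtCore.topIsTerminal Y).from W).op (β.hom.app (op (EtCoh.top Y)) (etOneSec Y ⟨1⟩))) :
    toConst W ≫ α = toConst W ≫ β := by
  refine free_hom_ext W ?_
  show α.hom.app (op W) ((toConst W).hom.app (op W) (gen W)) = β.hom.app (op W) ((toConst W).hom.app (op W) (gen W))
  rw [toConst, desc_gen]
  erw [NatTrans.naturality_apply α.hom, NatTrans.naturality_apply β.hom]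
  exact h

theorem exists_hom_of_pieces {ι : Type*} [Fintype ι] (V : ι → Y.Opens) (hcov : ∀ y : Y, ∃ i, y ∈ V i)
    (hdisj : ∀ i j, i ≠ j → Disjoint (V i : Set Y) (V j : Set Y)) (f : ι → (Zu ⟶ M)) :
    ∃ β : (cS Y).obj Zu ⟶ (cS Y).obj M,
      ∀ i, toConst (DivSeqLib.openObj (V i)) ≫ β = toConst (DivSeqLib.openObj (V i)) ≫ (cS Y).map (f i) := by
  obtain ⟨s, hs⟩ := DivSeqLib.exists_glue_family V hcov hdisj ((cS Y).obj M) fun i =>
    ((cS Y).obj M).obj.map ((EtCore.topIsTerminal Y).from (DivSeqLib.openObj (V i))).op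
      (((cS Y).map (f i)).hom.app (op (EtCoh.top Y)) (etOneSec Y ⟨1⟩))
  refine ⟨((EtCore.constAdj Y).homEquiv Zu _).symm (intHom s), fun i => toConst_comp_ext M _ _ _ ?_⟩
  refine Eq.trans ?_ (hs i)
  exact congrArg _ ((gsec_map_symm _).trans (intHom_one _))

/-- Pullback of a constant sheaf to the constant sheaf. -/
abbrev pcH {X Y : Scheme.{u}} (g : X ⟶ Y) (M : AddCommGrpCat.{u + 1}) :
    (EtCoh.pull g).obj ((cS Y).obj M) ⟶ (cS X).obj M :=
  (EtCore.pullConstIso g).hom.app M

/-- The zero degree comparison with constant coefficients. -/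
theorem exists_hom_pull {X Y : Scheme.{u}} (g : X ⟶ Y) [IsAffine Y] [CompactSpace X] [Finite M]
    (hsurj : Function.Surjective g.base) (hconn : ∀ y : Y, _root_.IsPreconnected (g.base ⁻¹' {y}))
    (hgen : ∀ (x : X) (y' : Y), y' ⤳ g.base x → ∃ x' : X, x' ⤳ x ∧ g.base x' = y')
    (α : (cS X).obj Zu ⟶ (cS X).obj M) :
    ∃ β : (cS Y).obj Zu ⟶ (cS Y).obj M,
      (EtCoh.pull g).map β ≫ pcH g M = pcH g Zu ≫ α := by
  classical
  haveI := Fintype.ofFinite M
  let F := (cS X).obj M
  let T := EtCoh.top X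
  let s := α.hom.app (op T) (etOneSec X ⟨1⟩)
  let σ : M → ToType (F.obj.obj (op T)) := fun m => s - cstUnit X M m
  let U : M → X.Opens := fun m => LcRepLib.zeroLocus F T (σ m)
  have hmem : ∀ (x : X) (m : M), ∀ (Ω : Type u) [Field Ω] [IsSepClosed Ω] (ξ : Spec (CommRingCat.of Ω) ⟶ X)
      (v : Fib ξ T), v.pt = x → (x ∈ U m ↔ germ ξ F T v s = germ ξ F T v (cstUnit X M m)) := by
    intro x m Ω _ _ ξ v hv
    rw [← sub_eq_zero, ← map_sub, ← hv]
    exact LcRepLib.mem_zeroLocus_iff F T (σ m) v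
  have huniq : ∀ x : X, ∃! m, x ∈ U m := fun x => by
    obtain ⟨Ω, _, _, ξ, v, hv⟩ := exists_geometric (U := T) x
    haveI := isCst_cstUnit M Ω ξ v
    have hb := ConcreteCategory.bijective_of_isIso (cstUnit X M ≫ germ ξ F T v)
    obtain ⟨m, hm⟩ := hb.2 (germ ξ F T v s)
    refine ⟨m, (hmem x m Ω ξ v hv).2 hm.symm, fun m' hm' => hb.1 ?_⟩
    exact (((hmem x m' Ω ξ v hv).1 hm').symm.trans hm.symm)
  have hclopen : ∀ m, IsClopen (U m : Set X) := fun m => by
    refine ⟨⟨?_⟩, (U m).2⟩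
    rw [show ((U m : Set X))ᶜ = ⋃ m' ∈ ({m' | m' ≠ m} : Set M), (U m' : Set X) from ?_]
    · exact isOpen_biUnion fun m' _ => (U m').2
    · ext x
      obtain ⟨m₀, hm₀, hu⟩ := huniq x
      simp only [Set.mem_compl_iff, Set.mem_iUnion₂]
      exact ⟨fun hx => ⟨m₀, fun e => hx (e ▸ hm₀), hm₀⟩, fun ⟨m', hne, hm'⟩ hx => hne ((hu m' hm').trans (hu m hx).symm)⟩
  let V : M → Y.Opens := fun m => ⟨g.base '' (U m : Set X), (isClopen_image g hsurj hconn hgen _ (hclopen m)).1.2⟩
  have hpre : ∀ m, g.base ⁻¹' (V m : Set Y) = U m := fun m => (isClopen_image g hsurj hconn hgen _ (hclopen m)).2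
  have hcov : ∀ y : Y, ∃ m, y ∈ V m := fun y => by
    obtain ⟨x, rfl⟩ := hsurj y
    obtain ⟨m, hm, -⟩ := huniq x
    exact ⟨m, x, hm, rfl⟩
  have hdisj : ∀ m m', m ≠ m' → Disjoint (V m : Set Y) (V m' : Set Y) := fun m m' hne => by
    refine Set.disjoint_left.2 fun y hy hy' => hne ?_
    obtain ⟨x, rfl⟩ := hsurj y
    obtain ⟨m₀, -, hu⟩ := huniq x
    have h1 : x ∈ g.base ⁻¹' (V m : Set Y) := hy
    have h2 : x ∈ g.base ⁻¹' (V m' : Set Y) := hy'
    rw [hpre] at h1 h2
    exact (hu m h1).trans (hu m' h2).symm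
  obtain ⟨β, hβ⟩ := exists_hom_of_pieces M V hcov hdisj fun m => elemHom m
  refine ⟨β, sub_eq_zero.1 ?_⟩
  refine ((EtCoh.pullPushAdj g).homEquiv _ _).injective ?_
  haveI : (EtCoh.push g).Additive := { }
  have h0 : ((EtCoh.pullPushAdj g).homEquiv ((cS Y).obj Zu) ((cS X).obj M)) 0 = 0 := by
    rw [Adjunction.homEquiv_unit, Functor.map_zero, comp_zero]
  rw [h0]
  refine jointly_epi_toConst (fun m => DivSeqLib.openObj (V m)) (fun y => ?_) _ _ fun m => ?_
  · obtain ⟨m, hm⟩ := hcov y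
    exact ⟨m, ⟨y, hm⟩, rfl⟩
  rw [← Adjunction.homEquiv_naturality_left]
  suffices hW : (EtCoh.pull g).map (toConst (DivSeqLib.openObj (V m))) ≫
      ((EtCoh.pull g).map β ≫ pcH g M - pcH g Zu ≫ α) = 0 by
    rw [hW, Adjunction.homEquiv_unit, Functor.map_zero, comp_zero]
  let W := DivSeqLib.openObj (V m)
  rw [Preadditive.comp_sub, sub_eq_zero]
  calc (EtCoh.pull g).map (toConst W) ≫ (EtCoh.pull g).map β ≫ pcH g M
      = (EtCoh.pull g).map (toConst W ≫ (cS Y).map (elemHom m)) ≫ pcH g M := by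
        rw [← Category.assoc, ← Functor.map_comp]
        exact congrArg (fun t => (EtCoh.pull g).map t ≫ pcH g M) (hβ m)
    _ = (EtCoh.pull g).map (toConst W) ≫ pcH g Zu ≫ (cS X).map (elemHom m) := by
        rw [Functor.map_comp, Category.assoc]
        exact congrArg (_ ≫ ·) ((EtCore.pullConstIso g).hom.naturality (elemHom m))
    _ = (EtCoh.pull g).map (toConst W) ≫ pcH g Zu ≫ α := by
        have e : (EtCore.pullConst g ℤ).inv ≫ pcH g Zu = 𝟙 _ := (EtCore.pullConst g ℤ).inv_hom_id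
        rw [← freeCmp_toConst g W]
        simp only [Category.assoc]
        rw [reassoc_of% e, reassoc_of% e]
        congr 1
        refine toConst_comp_ext M _ _ _ ?_
        rw [map_one_apply, elemHom_one]
        refine eq_of_germ F _ _ fun Ω _ _ ξ v => ?_
        rw [germ_res_apply, germ_res_apply]
        refine ((hmem _ m Ω ξ (v.map _) rfl).1 ?_).symm
        show _ ∈ (U m : Set X)
        rw [← hpre m]
        have h1 : g.base ((pullback.snd W.hom g).base v.pt) = W.hom.base ((pullback.fst W.hom g).base v.pt) :=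
          (congrArg (fun t => t.base v.pt) (pullback.condition (f := W.hom) (g := g))).symm
        have h2 : (v.map ((EtCore.topIsTerminal X).from (bX g W))).pt = (pullback.snd W.hom g).base v.pt := by
          have e : ((EtCore.topIsTerminal X).from (bX g W)).left = pullback.snd W.hom g :=
            (Category.comp_id _).symm.trans (MorphismProperty.Over.w ((EtCore.topIsTerminal X).from (bX g W)))
          refine Eq.trans ?_ (congrArg (fun t : pullback W.hom g ⟶ X => t.base v.pt) e)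
          rfl
        show g.base _ ∈ (V m : Set Y)
        rw [h2, h1]
        exact ((pullback.fst W.hom g).base v.pt).2

end EtAcycFibLib
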