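import Groth.Agent.EtAcycFibLib.Fibres
import Groth.Agent.EtAcycFibLib.Clopen
import Groth.Agent.EtStrictAcycLib.Fibre
import Groth.Agent.EtRpushStalkLib.Exists
import Groth.Agent.S0539
import Groth.Agent.WeightLib.Pts
import Groth.Agent.S8534

/-!
# Acyclicity from the geometric fibres
-/

set_option autoImplicit false
set_option linter.all false
set_option backward.isDefEq.respectTransparency false
set_option backward.isDefEq.respectTransparency.types false
set_option synthInstance.maxHeartbeats 400000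
set_option maxHeartbeats 2000000

universe u

open CategoryTheory CategoryTheory.Limits CategoryTheory.Abelian AlgebraicGeometry Opposite DescSecLib
open Groth.Agent Groth.Agent.EtShLib EtSliceLib EtAcycLib EtBcQLib EtRpushStalkLib

noncomputable section

namespace EtAcycFibLib

attribute [local instance] EtSliceLib.pullExact

/-- Generalisations lift when the strict localisations are surjective. -/
theorem exists_generalisation {X Y : Scheme.{u}} (g : X ⟶ Y)
    (hs : EtAcyc.OnStrictLocalizations g (fun _ _ h => Function.Surjective h.base))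
    (x : X) (y' : Y) (hy : y' ⤳ g.base x) : ∃ x' : X, x' ⤳ x ∧ g.base x' = y' := by
  obtain ⟨RS, _, _, _, _, hS⟩ := Groth.Agent.S0537.result (Y.presheaf.stalk (g.base x))
  obtain ⟨RX, _, _, _, _, hX⟩ := Groth.Agent.S0537.result (X.presheaf.stalk x)
  haveI : HenselianLocalRing RS := hS.henselian
  haveI : HenselianLocalRing RX := hX.henselian
  haveI : IsSepClosed (IsLocalRing.ResidueField RS) := hS.isSepClosure.sep_closed
  haveI : IsSepClosed (IsLocalRing.ResidueField RX) := hX.isSepClosure.sep_closed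
  obtain ⟨ψ, hl, hψ⟩ := exists_shHom g x RS RX
  letI : Algebra RS RX := ψ.toAlgebra
  haveI : IsLocalHom (algebraMap RS RX) := hl
  have hsur : Function.Surjective (Spec.map (CommRingCat.ofHom ψ)).base := hs x RS RX hψ
  obtain ⟨q₀, hq₀⟩ : y' ∈ Set.range (Y.fromSpecStalk (g.base x)).base := by
    rw [Scheme.range_fromSpecStalk]; exact hy
  haveI : Module.FaithfullyFlat (Y.presheaf.stalk (g.base x)) RS :=
    Groth.Agent.S0539.result (Y.presheaf.stalk (g.base x)) RS
  obtain ⟨q, hq⟩ := PrimeSpectrum.comap_surjective_of_faithfullyFlat (A := Y.presheaf.stalk (g.base x)) (B := RS) q₀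
  obtain ⟨q', hq'⟩ := hsur q
  refine ⟨(Hens2.specOf X x RX).base q', ?_, ?_⟩
  · have : (Hens2.specOf X x RX).base q' ∈ Set.range (X.fromSpecStalk x).base := ⟨_, rfl⟩
    rwa [Scheme.range_fromSpecStalk] at this
  · refine (congrArg (fun t : Spec (CommRingCat.of RX) ⟶ Y => t.base q') (specOf_comp g x RS RX ψ hψ)).symm.trans ?_
    show (Hens2.specOf Y (g.base x) RS).base ((Spec.map (CommRingCat.ofHom ψ)).base q') = y'
    rw [hq', ← hq₀]
    exact congrArg (Y.fromSpecStalk (g.base x)).base hq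

theorem isPreconnected_fibre {X Y : Scheme.{u}} (g : X ⟶ Y) {L : Set ℕ} {n : ℕ}
    (hfib : EtAcyc.GeomFibresAcyclicN L n g) (y : Y) :
    (∃ x, g.base x = y) ∧ _root_.IsPreconnected (g.base ⁻¹' {y}) := by
  let Ω := SeparableClosure (Y.residueField y)
  obtain ⟨hne, hc, -⟩ := hfib y Ω
  have hr : Set.range (pullback.fst g (EtAcyc.geomPt Y y Ω)).base = g.base ⁻¹' {y} := by
    rw [Scheme.Pullback.range_fst]
    congr 1
    ext z
    refine ⟨?_, fun hz => ⟨default, ?_⟩⟩
    · rintro ⟨w, rfl⟩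
      exact Scheme.fromSpecResidueField_apply y _
    · exact (Scheme.fromSpecResidueField_apply y _).trans (Set.mem_singleton_iff.1 hz).symm
  obtain ⟨p⟩ := hne
  refine ⟨⟨(pullback.fst g (EtAcyc.geomPt Y y Ω)).base p, ?_⟩, ?_⟩
  · have h1 : (pullback.fst g (EtAcyc.geomPt Y y Ω)).base p ∈ g.base ⁻¹' {y} := hr ▸ ⟨p, rfl⟩
    exact h1
  · rw [← hr]
    haveI := hc
    exact isPreconnected_range (pullback.fst g (EtAcyc.geomPt Y y Ω)).base.hom.continuous

theorem subsingleton_const_pow (P : Scheme.{u}) (ℓ : ℕ) (hℓ : ℓ.Prime) (q : ℕ)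
    (h : Subsingleton (EtCoh.H P (EtCoh.const P (ZMod ℓ)) q)) :
    ∀ ν : ℕ, Subsingleton (EtCoh.H P (EtCoh.const P (ZMod (ℓ ^ ν))) q) := by
  intro ν
  induction ν with
  | zero =>
    have hz : IsZero (EtCoh.const P (ZMod (ℓ ^ 0))) := by
      refine (ConstHLib.cS P).map_isZero ?_
      haveI : Subsingleton (ZMod (ℓ ^ 0)) := inferInstanceAs (Subsingleton (ZMod 1))
      exact AddCommGrpCat.isZero_of_subsingleton _
    refine subsingleton_of_forall_eq 0 fun x => ?_
    rw [← Ext.comp_mk₀_id x, hz.eq_of_src (𝟙 _) 0, Ext.mk₀_zero, Ext.comp_zero]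
  | succ ν ih =>
    let f0 : ℤ →+ ZMod (ℓ ^ (ν + 1)) := zmultiplesHom _ ((ℓ ^ ν : ℕ) : ZMod (ℓ ^ (ν + 1)))
    have hf0 : f0 ℓ = 0 := by
      show (ℓ : ℤ) • ((ℓ ^ ν : ℕ) : ZMod (ℓ ^ (ν + 1))) = 0
      rw [natCast_zsmul, nsmul_eq_mul, ← Nat.cast_mul, ← pow_succ', ZMod.natCast_self]
    let f : ZMod ℓ →+ ZMod (ℓ ^ (ν + 1)) := ZMod.lift ℓ ⟨f0, hf0⟩
    let g : ZMod (ℓ ^ (ν + 1)) →+ ZMod (ℓ ^ ν) := (ZMod.castHom (pow_dvd_pow ℓ ν.le_succ) _).toAddMonoidHom
    haveI : NeZero ℓ := ⟨hℓ.ne_zero⟩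
    have hf : ∀ a : ZMod ℓ, f a = ((ℓ ^ ν * a.val : ℕ) : ZMod (ℓ ^ (ν + 1))) := fun a => by
      conv_lhs => rw [← ZMod.natCast_zmod_val a, ← Int.cast_natCast, ZMod.lift_coe]
      show (a.val : ℤ) • ((ℓ ^ ν : ℕ) : ZMod (ℓ ^ (ν + 1))) = _
      rw [natCast_zsmul, nsmul_eq_mul, ← Nat.cast_mul, mul_comm]
    have hfi : Function.Injective f := (injective_iff_map_eq_zero f).2 fun a ha => by
      rw [hf, ZMod.natCast_eq_zero_iff, pow_succ, Nat.mul_dvd_mul_iff_left (pow_pos hℓ.pos ν)] at ha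
      rw [← ZMod.natCast_zmod_val a, ZMod.natCast_eq_zero_iff]
      exact ha
    have hgf : ∀ a, g (f a) = 0 := fun a => by
      rw [hf]
      show ZMod.castHom (pow_dvd_pow ℓ ν.le_succ) (ZMod (ℓ ^ ν)) _ = 0
      rw [map_natCast, ZMod.natCast_eq_zero_iff]
      exact Dvd.intro _ rfl
    have hex : ∀ z, g z = 0 → ∃ a, f a = z := fun z hz => by
      haveI : NeZero (ℓ ^ (ν + 1)) := ⟨pow_ne_zero _ hℓ.ne_zero⟩
      have h1 : ℓ ^ ν ∣ z.val := by
        rw [← ZMod.natCast_eq_zero_iff, ← map_natCast (ZMod.castHom (pow_dvd_pow ℓ ν.le_succ) (ZMod (ℓ ^ ν))),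
          ZMod.natCast_zmod_val]
        exact hz
      obtain ⟨c, hc⟩ := h1
      refine ⟨(c : ZMod ℓ), ?_⟩
      rw [hf, ZMod.val_natCast, ← ZMod.natCast_zmod_val z, hc]
      have hlt : c < ℓ := by
        have := ZMod.val_lt z
        rw [hc, pow_succ] at this
        exact Nat.lt_of_mul_lt_mul_left this
      rw [Nat.mod_eq_of_lt hlt]
    let S : ShortComplex AddCommGrpCat.{u + 1} :=
      ShortComplex.mk (X₁ := AddCommGrpCat.of (ULift.{u + 1} (ZMod ℓ)))
        (X₂ := AddCommGrpCat.of (ULift.{u + 1} (ZMod (ℓ ^ (ν + 1)))))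
        (X₃ := AddCommGrpCat.of (ULift.{u + 1} (ZMod (ℓ ^ ν))))
        (AddCommGrpCat.ofHom ((AddEquiv.ulift.symm.toAddMonoidHom.comp f).comp AddEquiv.ulift.toAddMonoidHom))
        (AddCommGrpCat.ofHom ((AddEquiv.ulift.symm.toAddMonoidHom.comp g).comp AddEquiv.ulift.toAddMonoidHom))
        (by ext a; exact hgf a.down)
    have hS : S.ShortExact :=
      { exact := (ShortComplex.ab_exact_iff S).2 fun z hz => by
          obtain ⟨a, ha⟩ := hex z.down (congrArg ULift.down hz)
          exact ⟨⟨a⟩, ULift.ext _ _ ha⟩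
        mono_f := (AddCommGrpCat.mono_iff_injective _).2 fun a b e => ULift.ext _ _ (hfi (congrArg ULift.down e))
        epi_g := (AddCommGrpCat.epi_iff_surjective _).2 fun z => by
          obtain ⟨a, ha⟩ := ZMod.castHom_surjective (pow_dvd_pow ℓ ν.le_succ) z.down
          exact ⟨⟨a⟩, ULift.ext _ _ ha⟩ }
    have hS' := hS.map_of_exact (ConstHLib.cS P)
    refine subsingleton_of_forall_eq 0 fun x => ?_
    obtain ⟨y, rfl⟩ := Ext.covariant_sequence_exact₂ _ hS' x (@Subsingleton.elim _ ih _ _)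
    rw [@Subsingleton.elim _ h y 0, Ext.zero_comp]

theorem isAlgebraic_comp {K K' Ω : Type u} [Field K] [Field K'] [Field Ω] (r : K →+* K') [Algebra K' Ω]
    [Algebra.IsAlgebraic K' Ω] (h : letI := r.toAlgebra; Algebra.IsAlgebraic K K') :
    letI := ((algebraMap K' Ω).comp r).toAlgebra
    Algebra.IsAlgebraic K Ω := by
  letI := r.toAlgebra
  letI := ((algebraMap K' Ω).comp r).toAlgebra
  haveI : IsScalarTower K K' Ω := IsScalarTower.of_algebraMap_eq fun _ => rfl
  haveI := h
  exact Algebra.IsAlgebraic.trans K K' Ω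

/-- Geometric fibres of a locally quasi-finite base change. -/
theorem exists_geomPt_comp {Y Y' : Scheme.{u}} (i : Y' ⟶ Y) [LocallyQuasiFinite i] (y' : Y') :
    ∃ (Ω : Type u) (_ : Field Ω) (_ : IsSepClosed Ω) (_ : Algebra (Y'.residueField y') Ω)
      (_ : Algebra (Y.residueField (i.base y')) Ω), Algebra.IsAlgebraic (Y'.residueField y') Ω ∧
        Algebra.IsAlgebraic (Y.residueField (i.base y')) Ω ∧
          EtAcyc.geomPt Y' y' Ω ≫ i = EtAcyc.geomPt Y (i.base y') Ω := by
  letI : Algebra (Y.residueField (i.base y')) (Y'.residueField y') := (i.residueFieldMap y').hom.toAlgebra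
  haveI : Module.Finite (Y.residueField (i.base y')) (Y'.residueField y') := WeightLib.finite_residueFieldMap i y'
  haveI : Algebra.IsAlgebraic (Y.residueField (i.base y')) (Y'.residueField y') := Algebra.IsAlgebraic.of_finite _ _
  refine ⟨AlgebraicClosure (Y'.residueField y'), inferInstance, inferInstance, inferInstance,
    ((algebraMap (Y'.residueField y') (AlgebraicClosure (Y'.residueField y'))).comp
      (i.residueFieldMap y').hom).toAlgebra, inferInstance, ?_, ?_⟩
  · exact isAlgebraic_comp (i.residueFieldMap y').hom (Algebra.IsAlgebraic.of_finite _ _)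
  · show (Spec.map _ ≫ Y'.fromSpecResidueField y') ≫ i = Spec.map _ ≫ Y.fromSpecResidueField _
    rw [Category.assoc, ← i.SpecMap_residueFieldMap_fromSpecResidueField y', ← Spec.map_comp_assoc]
    rfl

theorem isLTorsion_const {Y : Scheme.{u}} {L : Set ℕ} {ℓ : ℕ} (hℓ : ℓ.Prime) (hL : ℓ ∈ L) (ν : ℕ) :
    EtAcyc.IsLTorsion L (EtCoh.const Y (ZMod (ℓ ^ ν))) := by
  intro U s x
  refine ⟨U, 𝟙 U, ℓ ^ ν, ⟨x, rfl⟩, ⟨pow_pos hℓ.pos ν, fun p hp hd => ?_⟩, ?_⟩
  · rwa [(Nat.prime_dvd_prime_iff_eq hp hℓ).1 (hp.dvd_of_dvd_pow hd)]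
  · exact congrArg (fun t : EtCoh.const Y (ZMod (ℓ ^ ν)) ⟶ _ =>
      t.hom.app (op U) ((EtCoh.const Y (ZMod (ℓ ^ ν))).obj.map (𝟙 U).op s)) (EtStrictAcycLib.nsmul_id_const (ℓ ^ ν))

/-- Surjectivity in degree zero on an affine base. -/
theorem surjective_Hpull_zero {X Y : Scheme.{u}} (g : X ⟶ Y) [IsAffine Y] [QuasiCompact g]
    (hsurj : Function.Surjective g.base) (hconn : ∀ y : Y, _root_.IsPreconnected (g.base ⁻¹' {y}))
    (hlift : EtAcyc.OnStrictLocalizations g (fun _ _ h => Function.Surjective h.base))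
    (M : Type) [AddCommGroup M] [Finite M] :
    Function.Surjective (EtCore.Hpull g (EtCoh.const Y M) 0) := by
  haveI : CompactSpace X := QuasiCompact.compactSpace_of_compactSpace g
  haveI : PreservesFiniteColimits (EtCoh.pull g) := EtCore.pull_preservesFiniteColimits g
  intro ξ
  obtain ⟨φ, rfl⟩ := (Ext.mk₀_bijective _ _).2 ξ
  let Mu : AddCommGrpCat.{u + 1} := AddCommGrpCat.of (ULift.{u + 1} M)
  haveI : Finite Mu := inferInstanceAs (Finite (ULift.{u + 1} M))
  obtain ⟨β, hβ⟩ := exists_hom_pull Mu g hsurj hconn (exists_generalisation g hlift) (φ ≫ pcH g Mu)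
  refine ⟨Ext.mk₀ β, ?_⟩
  show (Ext.mk₀ (EtCore.pullConst g ℤ).inv).comp (Ext.mapExactFunctor (EtCoh.pull g) (Ext.mk₀ β)) (zero_add 0) = _
  rw [Ext.mapExactFunctor_mk₀, Ext.mk₀_comp_mk₀]
  refine congrArg Ext.mk₀ ?_
  haveI : IsIso (pcH g Mu) := inferInstanceAs (IsIso ((EtCore.pullConstIso g).hom.app Mu))
  rw [← cancel_mono (pcH g Mu), Category.assoc]
  refine (congrArg ((EtCore.pullConst g ℤ).inv ≫ ·) hβ).trans ?_
  rw [← Category.assoc]
  exact (congrArg (· ≫ φ ≫ pcH g Mu) (EtCore.pullConst g ℤ).inv_hom_id).trans (Category.id_comp _)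

/-- Acyclicity from the geometric fibres. -/
theorem isAcyclicN_of_geomFibres {X Y : Scheme.{u}} (g : X ⟶ Y) [QuasiCompact g] [QuasiSeparated g] {L : Set ℕ}
    (hL : ∃ ℓ ∈ L, ℓ.Prime) (n : ℕ) (hlift : EtAcyc.OnStrictLocalizations g (fun _ _ h => Function.Surjective h.base))
    (hloc : ∀ k, k < n → EtAcyc.IsLocAcyclicN g L k) (hfib : EtAcyc.GeomFibresAcyclicN L n g) :
    EtAcyc.IsAcyclicN g L n := by
  have hs : Function.Surjective g.base := fun y => (isPreconnected_fibre g hfib y).1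
  suffices H : ∀ m, m ≤ n → EtAcyc.IsAcyclicN g L m from H n le_rfl
  intro m
  induction m with
  | zero =>
    intro _
    refine isAcyclicN_of_const_affine g hs L 0 fun Y' i hY' hi hi' ℓ hℓ hℓL ν hν q hq => ?_
    obtain rfl : q = 0 := by omega
    haveI := hY'
    haveI := hi
    haveI := hi'
    haveI : QuasiCompact (pullback.snd g i) := MorphismProperty.pullback_snd (P := @QuasiCompact) _ _ ‹_›
    haveI : NeZero (ℓ ^ ν) := ⟨pow_ne_zero _ hℓ.ne_zero⟩
    refine surjective_Hpull_zero (pullback.snd g i)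
      (MorphismProperty.pullback_snd (P := @AlgebraicGeometry.Surjective) g i ⟨hs⟩).surj (fun y' => ?_)
      (onStrictLocalizations_baseChange_lqf g i _ (fun h j a h' _ _ _ sq hh =>
        (MorphismProperty.of_isPullback (P := @AlgebraicGeometry.Surjective) sq ⟨hh⟩).surj) hlift) _
    obtain ⟨Ω, _, _, _, _, hal, hal', e⟩ := exists_geomPt_comp i y'
    obtain ⟨hne, hc, -⟩ := @hfib (i.base y') Ω _ _ _ hal'
    haveI := hc
    let P := pullback g (EtAcyc.geomPt Y (i.base y') Ω)
    let r : P ⟶ pullback g i := pullback.lift (pullback.fst _ _) (pullback.snd _ _ ≫ EtAcyc.geomPt Y' y' Ω)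
      (by rw [Category.assoc, e]; exact pullback.condition)
    have hr : IsPullback r (pullback.snd _ _) (pullback.snd g i) (EtAcyc.geomPt Y' y' Ω) := by
      refine IsPullback.of_right ?_ (pullback.lift_snd _ _ _) (IsPullback.of_hasPullback g i)
      rw [pullback.lift_fst, e]
      exact IsPullback.of_hasPullback g (EtAcyc.geomPt Y (i.base y') Ω)
    have hrange : Set.range r.base = (pullback.snd g i).base ⁻¹' {y'} := by
      rw [← hr.isoPullback_hom_fst, Scheme.Hom.comp_base, TopCat.coe_comp, Set.range_comp,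
        hr.isoPullback.hom.surjective.range_eq, Set.image_univ, Scheme.Pullback.range_fst]
      congr 1
      ext z
      refine ⟨?_, fun hz => ⟨default, ?_⟩⟩
      · rintro ⟨w, rfl⟩
        exact Scheme.fromSpecResidueField_apply y' _
      · exact (Scheme.fromSpecResidueField_apply y' _).trans (Set.mem_singleton_iff.1 hz).symm
    rw [← hrange]
    exact isPreconnected_range r.base.hom.continuous
  | succ k ih =>
    intro hk
    have hgk := ih (by omega)
    refine isAcyclicN_of_const_affine g hs L (k + 1) fun Y' i hY' hi hi' ℓ hℓ hℓL ν hν q hq => ?_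
    haveI := hY'
    haveI := hi
    haveI := hi'
    haveI : QuasiCompact (pullback.snd g i) := MorphismProperty.pullback_snd (P := @QuasiCompact) _ _ ‹_›
    haveI : QuasiSeparated (pullback.snd g i) := MorphismProperty.pullback_snd (P := @QuasiSeparated) _ _ ‹_›
    rcases Nat.lt_or_eq_of_le hq with hq' | rfl
    · exact (CovDevLib.bijective_const_of_acyclicN g hgk i hℓ hℓL ν q (by omega)).2
    intro ξ
    refine mem_range_of_kills_affine (pullback.snd g i) hL
      (isAcyclicN_baseChange_lqf hL hgk i (IsPullback.of_hasPullback g i))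
      (isLocAcyclicN_baseChange_lqf g i hL (hloc k (by omega))) (isLTorsion_const hℓ hℓL ν) ξ fun y' => ?_
    obtain ⟨Ω, _, _, _, _, hal, hal', e⟩ := exists_geomPt_comp i y'
    refine ⟨Ω, inferInstance, inferInstance, hal, ?_⟩
    let g' := pullback.snd g i
    let P := pullback g (EtAcyc.geomPt Y (i.base y') Ω)
    let b := pullback.fst g' (EtAcyc.geomPt Y' y' Ω)
    have hw : (b ≫ pullback.fst g i) ≫ g = pullback.snd g' _ ≫ EtAcyc.geomPt Y (i.base y') Ω := by
      rw [Category.assoc, pullback.condition, ← e, pullback.condition_assoc]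
    let r : P ⟶ pullback g i := pullback.lift (pullback.fst _ _) (pullback.snd _ _ ≫ EtAcyc.geomPt Y' y' Ω)
      (by rw [Category.assoc, e]; exact pullback.condition)
    have hsub : Subsingleton (EtCoh.H P (EtCoh.const P (ZMod (ℓ ^ ν))) (k + 1)) :=
      subsingleton_const_pow P ℓ hℓ (k + 1) ((@hfib (i.base y') Ω _ _ _ hal').2.2 ℓ hℓ hℓL (k + 1) (by omega) (by omega)) ν
    have hkr : Kills ((EtCoh.pull g').obj (EtCoh.const Y' (ZMod (ℓ ^ ν)))) ξ r := by
      let C := (EtCoh.pull r).mapIso (EtCore.pullConst g' (ZMod (ℓ ^ ν))) ≪≫ EtCore.pullConst r (ZMod (ℓ ^ ν))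
      exact (bijective_mk₀_iso_postcomp C (k + 1)).1 (@Subsingleton.elim _ hsub _ _)
    refine hkr.comp _ ξ (pullback.lift (b ≫ pullback.fst g i) (pullback.snd g' _) hw) b ?_
    apply pullback.hom_ext
    · simp only [r, Category.assoc, pullback.lift_fst]
    · simp only [r, Category.assoc, pullback.lift_snd, pullback.lift_snd_assoc]
      exact pullback.condition.symm

end EtAcycFibLib
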