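import Groth.Agent.WEtSHLib.Local
import Groth.Agent.S0754
import Groth.Agent.LocAcycBCLib.Main
import Groth.Prelude.Def_EtAcyc

/-!
# Strict localisations of a strict localisation
-/

set_option autoImplicit false
set_option linter.all false
set_option backward.isDefEq.respectTransparency false
set_option backward.isDefEq.respectTransparency.types false
set_option synthInstance.maxHeartbeats 400000
set_option maxHeartbeats 2000000

universe u

open CategoryTheory CategoryTheory.Limits AlgebraicGeometry Opposite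

noncomputable section

namespace EtAcycFibLib

/-- Weak étaleness of rings from weak étaleness of spectra. -/
theorem weaklyEtale_ring {R S : Type u} [CommRing R] [CommRing S] [Algebra R S]
    (h : WeaklyEtale (Spec.map (CommRingCat.ofHom (algebraMap R S)))) : Algebra.WeaklyEtale R S := by
  haveI := h
  haveI : Module.Flat R S :=
    RingHom.flat_algebraMap_iff.1 ((HasRingHomProperty.Spec_iff (P := @Flat)).1 h.flat)
  refine ⟨inferInstance, ?_⟩
  have h2 := h.flat_diagonal
  rw [diagonal_SpecMap, MorphismProperty.cancel_right_of_respectsIso @Flat] at h2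
  exact (HasRingHomProperty.Spec_iff (P := @Flat)).1 h2

theorem weaklyEtale_fromSpecStalk {X : Scheme.{u}} (x : X) : WeaklyEtale (X.fromSpecStalk x) := by
  haveI : Flat (X.fromSpecStalk x) := AlgSpLib.flat_fromSpecStalk x
  haveI : IsIso (pullback.diagonal (X.fromSpecStalk x)) := inferInstance
  exact ⟨inferInstance, inferInstance⟩

/-- The strict henselisation at a point of a strict localisation is one at the image point. -/
theorem isStrictHenselization_specOf {X : Scheme.{u}} (x : X) (RX : Type u) [CommRing RX] [IsLocalRing RX]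
    [Algebra (X.presheaf.stalk x) RX] [IsLocalHom (algebraMap (X.presheaf.stalk x) RX)]
    [Hensel.IsStrictHenselization (X.presheaf.stalk x) RX] (z : Spec (CommRingCat.of RX))
    (S : Type u) [CommRing S] [IsLocalRing S] [Algebra ((Spec (CommRingCat.of RX)).presheaf.stalk z) S]
    [IsLocalHom (algebraMap ((Spec (CommRingCat.of RX)).presheaf.stalk z) S)]
    [Hensel.IsStrictHenselization ((Spec (CommRingCat.of RX)).presheaf.stalk z) S] :
    letI := ((algebraMap ((Spec (CommRingCat.of RX)).presheaf.stalk z) S).comp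
      ((Hens2.specOf X x RX).stalkMap z).hom).toAlgebra
    ∃ _ : IsLocalHom (algebraMap (X.presheaf.stalk ((Hens2.specOf X x RX).base z)) S),
      Hensel.IsStrictHenselization (X.presheaf.stalk ((Hens2.specOf X x RX).base z)) S := by
  let gX := Hens2.specOf X x RX
  let B := (Spec (CommRingCat.of RX)).presheaf.stalk z
  let A := X.presheaf.stalk (gX.base z)
  letI : Algebra A B := (gX.stalkMap z).hom.toAlgebra
  letI : Algebra A S := ((algebraMap B S).comp (gX.stalkMap z).hom).toAlgebra
  haveI : IsScalarTower A B S := IsScalarTower.of_algebraMap_eq fun _ => rfl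
  haveI : IsLocalHom (algebraMap A B) := inferInstanceAs (IsLocalHom (gX.stalkMap z).hom)
  haveI hl : IsLocalHom (algebraMap A S) := RingHom.isLocalHom_comp (algebraMap B S) (gX.stalkMap z).hom
  haveI : Algebra.WeaklyEtale A B := by
    refine weaklyEtale_ring ?_
    haveI := Groth.Agent.S0754.result X x RX
    haveI := weaklyEtale_fromSpecStalk z
    haveI := weaklyEtale_fromSpecStalk (gX.base z)
    haveI : WeaklyEtale (Spec.map (gX.stalkMap z) ≫ X.fromSpecStalk (gX.base z)) := by
      rw [Scheme.SpecMap_stalkMap_fromSpecStalk]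
      infer_instance
    exact WeaklyEtale.of_comp (Spec.map (gX.stalkMap z)) (X.fromSpecStalk (gX.base z))
  exact ⟨hl, Groth.Agent.WEtSHLib.isStrictHenselization_of_weaklyEtale A B S⟩

theorem onStrictLocalizations_apply {X Y : Scheme.{u}} (g : X ⟶ Y) (Q : ∀ ⦃X' Y' : Scheme.{u}⦄, (X' ⟶ Y') → Prop)
    (hg : EtAcyc.OnStrictLocalizations g Q) (x : X) (y : Y) (e : g.base x = y) (SY SX : Type u) [CommRing SY]
    [CommRing SX] [IsLocalRing SY] [IsLocalRing SX] [Algebra (Y.presheaf.stalk y) SY]
    [IsLocalHom (algebraMap (Y.presheaf.stalk y) SY)] [Hensel.IsStrictHenselization (Y.presheaf.stalk y) SY]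
    [Algebra (X.presheaf.stalk x) SX] [IsLocalHom (algebraMap (X.presheaf.stalk x) SX)]
    [Hensel.IsStrictHenselization (X.presheaf.stalk x) SX] [Algebra SY SX] [IsLocalHom (algebraMap SY SX)]
    (hc : Spec.map (CommRingCat.ofHom (algebraMap SY SX)) ≫ Hens2.specOf Y y SY = Hens2.specOf X x SX ≫ g) :
    Q (Spec.map (CommRingCat.ofHom (algebraMap SY SX))) := by
  subst e
  refine hg x SY SX (LocAcycBCLib.eq_of_spec (Y.fromSpecStalk (g.base x)) _ _ ?_)
  rw [CommRingCat.ofHom_comp, CommRingCat.ofHom_comp, Spec.map_comp, Spec.map_comp, Category.assoc, Category.assoc,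
    CommRingCat.ofHom_hom, Scheme.SpecMap_stalkMap_fromSpecStalk, ← Category.assoc (Spec.map _) _ g]
  exact hc

/-- A property of the strict localisations of `g` holds for those of a strict localisation of `g`. -/
theorem onStrictLocalizations_specMap {X Y : Scheme.{u}} (g : X ⟶ Y)
    (Q : ∀ ⦃X' Y' : Scheme.{u}⦄, (X' ⟶ Y') → Prop) (hg : EtAcyc.OnStrictLocalizations g Q)
    (x : X) (RY RX : Type u) [CommRing RY] [CommRing RX] [IsLocalRing RY] [IsLocalRing RX]
    [Algebra (Y.presheaf.stalk (g.base x)) RY] [IsLocalHom (algebraMap (Y.presheaf.stalk (g.base x)) RY)]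
    [Hensel.IsStrictHenselization (Y.presheaf.stalk (g.base x)) RY]
    [Algebra (X.presheaf.stalk x) RX] [IsLocalHom (algebraMap (X.presheaf.stalk x) RX)]
    [Hensel.IsStrictHenselization (X.presheaf.stalk x) RX] [Algebra RY RX] [IsLocalHom (algebraMap RY RX)]
    (hc : (algebraMap RY RX).comp (algebraMap (Y.presheaf.stalk (g.base x)) RY) =
      (algebraMap (X.presheaf.stalk x) RX).comp (g.stalkMap x).hom) :
    EtAcyc.OnStrictLocalizations (Spec.map (CommRingCat.ofHom (algebraMap RY RX))) Q := by
  intro z SY SX _ _ _ _ aY _ hY aX _ hX _ _ hcz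
  let gX := Hens2.specOf X x RX
  let gY := Hens2.specOf Y (g.base x) RY
  let h := Spec.map (CommRingCat.ofHom (algebraMap RY RX))
  have hh : h ≫ gY = gX ≫ g := by
    show Spec.map _ ≫ Spec.map _ ≫ _ = (Spec.map _ ≫ _) ≫ g
    rw [Category.assoc, ← Scheme.SpecMap_stalkMap_fromSpecStalk, ← Spec.map_comp_assoc, ← Spec.map_comp_assoc,
      ← CommRingCat.ofHom_comp, hc]
    rfl
  have e : g.base (gX.base z) = gY.base (h.base z) :=
    (congrArg (fun t : Spec (CommRingCat.of RX) ⟶ Y => t.base z) hh).symm
  obtain ⟨hlY, hY'⟩ := isStrictHenselization_specOf (g.base x) RY (h.base z) SY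
  obtain ⟨hlX, hX'⟩ := isStrictHenselization_specOf x RX z SX
  letI := ((algebraMap _ SY).comp (gY.stalkMap (h.base z)).hom).toAlgebra
  letI := ((algebraMap _ SX).comp (gX.stalkMap z).hom).toAlgebra
  haveI := hlY
  haveI := hlX
  haveI := hY'
  haveI := hX'
  refine onStrictLocalizations_apply g Q hg (gX.base z) (gY.base (h.base z)) e SY SX ?_
  show Spec.map _ ≫ Spec.map (CommRingCat.ofHom ((algebraMap _ SY).comp (gY.stalkMap (h.base z)).hom)) ≫ _ =
    (Spec.map (CommRingCat.ofHom ((algebraMap _ SX).comp (gX.stalkMap z).hom)) ≫ _) ≫ g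
  rw [CommRingCat.ofHom_comp, CommRingCat.ofHom_comp, Spec.map_comp, Spec.map_comp, Category.assoc, Category.assoc,
    Category.assoc, CommRingCat.ofHom_hom, CommRingCat.ofHom_hom, Scheme.SpecMap_stalkMap_fromSpecStalk,
    Scheme.SpecMap_stalkMap_fromSpecStalk_assoc, ← hh, ← Scheme.SpecMap_stalkMap_fromSpecStalk_assoc,
    ← Category.assoc, ← Spec.map_comp, ← CommRingCat.ofHom_comp, hcz, CommRingCat.ofHom_comp, Spec.map_comp,
    Category.assoc, CommRingCat.ofHom_hom, Scheme.SpecMap_stalkMap_fromSpecStalk_assoc,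
    Scheme.SpecMap_stalkMap_fromSpecStalk_assoc]

end EtAcycFibLib
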