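import Groth.Agent.S3511
import Groth.Agent.EtAcycLib.Comp

/-!
# Comparison for an acyclic morphism and for its locally quasi-finite base changes
-/

set_option autoImplicit false
set_option linter.all false
set_option backward.isDefEq.respectTransparency false
set_option backward.isDefEq.respectTransparency.types false
set_option synthInstance.maxHeartbeats 400000
set_option maxHeartbeats 2000000

universe u

open CategoryTheory CategoryTheory.Limits CategoryTheory.Abelian AlgebraicGeometry Opposite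
open Groth.Agent Groth.Agent.EtShLib Groth.Agent.EtCompLib DescSecLib EtSliceLib EtAcycLib CovDevLib

noncomputable section

namespace EtAcycFibLib

attribute [local instance] EtSliceLib.pullExact

variable {X Y : Scheme.{u}} {g : X ⟶ Y} {L : Set ℕ} {m n : ℕ}

theorem compN_of_le (h : m ≤ n) (hg : EtAcyc.CompN g L n) : EtAcyc.CompN g L m := fun F hF _ => by
  refine ⟨fun q hq => (hg F hF).1 q (hq.trans h), ?_⟩
  rcases Nat.lt_or_eq_of_le h with h' | rfl
  · exact ((hg F hF).1 (m + 1) h').1
  · exact (hg F hF).2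

theorem isAcyclicN_of_le (h : m ≤ n) (hg : EtAcyc.IsAcyclicN g L n) : EtAcyc.IsAcyclicN g L m :=
  fun V => compN_of_le h (hg V)

theorem isLocAcyclicN_of_le (h : m ≤ n) (hg : EtAcyc.IsLocAcyclicN g L n) : EtAcyc.IsLocAcyclicN g L m :=
  fun x RY RX _ _ _ _ _ _ _ _ _ _ _ _ hc => isAcyclicN_of_le h (hg x RY RX hc)

/-- An acyclic morphism compares the cohomology. -/
theorem compN_of_acyclicN (hg : EtAcyc.IsAcyclicN g L n) : EtAcyc.CompN g L n := by
  intro F hF _
  haveI : IsIso (pullback.snd (EtCoh.top Y).hom g) := inferInstanceAs (IsIso (pullback.snd (𝟙 Y) g))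
  have w : pullback.snd (EtCoh.top Y).hom g ≫ g = EtAcyc.prj g (EtCoh.top Y) :=
    pullback.condition.symm.trans (Category.comp_id _)
  have h := hg (EtCoh.top Y) F hF
  have e : ∀ q, ∃ φ : EtCoh.H X ((EtCoh.pull g).obj F) q →
      EtCoh.H (pullback (EtCoh.top Y).hom g) ((EtCoh.pull (EtAcyc.prj g (EtCoh.top Y))).obj F) q,
      Function.Bijective φ ∧ (EtCore.Hpull (EtAcyc.prj g (EtCoh.top Y)) F q : _ → _) = φ ∘ EtCore.Hpull g F q :=
    fun q => Hpull_iso_comp (pullback.snd (EtCoh.top Y).hom g) g (EtAcyc.prj g (EtCoh.top Y)) w F q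
  choose φ hφ he using e
  refine ⟨fun q hq => ?_, ?_⟩
  · have h1 := h.1 q hq
    rw [he q] at h1
    exact ((hφ q).of_comp_iff' _).1 h1
  · have h1 := h.2
    rw [he (n + 1)] at h1
    exact h1.of_comp

/-- The criterion with constant sheaves on affine schemes only. -/
theorem isAcyclicN_of_const_affine {X Y : Scheme.{u}} (g : X ⟶ Y) [QuasiCompact g] [QuasiSeparated g]
    (hs : Function.Surjective g.base) (L : Set ℕ) (n : ℕ)
    (H : ∀ (Y' : Scheme.{u}) (i : Y' ⟶ Y), IsAffine Y' → LocallyQuasiFinite i → LocallyOfFiniteType i → ∀ ℓ : ℕ, ℓ.Prime → ℓ ∈ L →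
      ∀ ν : ℕ, 1 ≤ ν → ∀ q : ℕ, q ≤ n →
        Function.Surjective (EtCore.Hpull (pullback.snd g i) (EtCoh.const Y' (ZMod (ℓ ^ ν))) q)) :
    EtAcyc.IsAcyclicN g L n := by
  refine (EtAcycLib.isAcyclicN_iff g L n).2 fun V F hF => ?_
  refine unit_vanish_of_basis (EtAcyc.prj g V) F n (fun W => IsAffine W.left) (fun W w => ?_) (fun W hW m hm => ?_)
  · obtain ⟨A, hA, hwA, -⟩ := exists_isAffineOpen_mem_and_subset (X := W.left) (x := w) (U := ⊤) trivial
    haveI : AlgebraicGeometry.Etale W.hom := W.prop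
    exact ⟨Scheme.Etale.mk (A.ι ≫ W.hom), MorphismProperty.Over.homMk A.ι rfl, ⟨⟨w, hwA⟩, rfl⟩, hA⟩
  haveI : AlgebraicGeometry.Etale V.hom := V.prop
  haveI : AlgebraicGeometry.Etale W.hom := W.prop
  haveI := locallyQuasiFinite_of_etale V.hom
  haveI := locallyQuasiFinite_of_etale W.hom
  haveI : IsAffine W.left := hW
  haveI : IsAffine ((𝟭 Scheme.{u}).obj W.left) := hW
  haveI : CompactSpace ↥((𝟭 Scheme.{u}).obj W.left) := inferInstanceAs (CompactSpace W.left)
  haveI : QuasiSeparatedSpace ↥((𝟭 Scheme.{u}).obj W.left) := inferInstanceAs (QuasiSeparatedSpace W.left)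
  let g1 := EtAcyc.prj g V
  haveI : QuasiCompact g1 := MorphismProperty.pullback_fst (P := @QuasiCompact) _ _ ‹_›
  haveI : QuasiSeparated g1 := MorphismProperty.pullback_fst (P := @QuasiSeparated) _ _ ‹_›
  let h := pullback.fst W.hom g1
  haveI : QuasiCompact h := MorphismProperty.pullback_fst (P := @QuasiCompact) _ _ ‹_›
  haveI : QuasiSeparated h := MorphismProperty.pullback_fst (P := @QuasiSeparated) _ _ ‹_›
  haveI : CompactSpace ↥(pullback W.hom g1) := QuasiCompact.compactSpace_of_compactSpace h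
  haveI : QuasiSeparatedSpace ↥(pullback W.hom g1) := quasiSeparatedSpace_of_quasiSeparated h
  have hG := (isLTorsion_iff_torsionBy L _).1 (EtAcycLib.isLTorsion_pull W hF)
  refine (range_torsion (moduli_primesIn L) (n := n) (h := h) ?_ ((EtCoh.pull W.hom).obj F)
    (fun Ω _ _ ξ x => (hG Ω ξ x).imp fun d hd => ⟨hd.1.1, hd.2⟩) fun d hd => ?_).1 m hm
  · intro X1 p hp r hr hpp
    haveI := hp
    have hA := (IsPullback.of_hasPullback p h).flip.paste_horiz
      ((IsPullback.of_hasPullback W.hom g1).flip.paste_horiz (IsPullback.of_hasPullback V.hom g).flip)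
    haveI : LocallyQuasiFinite (p ≫ W.hom ≫ V.hom) := inferInstance
    haveI : LocallyOfFiniteType (p ≫ W.hom ≫ V.hom) := inferInstance
    refine ⟨injective_Hpull_zero _ ?_ _, fun j hj => ?_⟩
    · exact (MorphismProperty.of_isPullback (P := @AlgebraicGeometry.Surjective) hA ⟨hs⟩).surj
    · obtain ⟨ℓ, e, hℓ, rfl⟩ := hpp
      rcases Nat.eq_zero_or_pos e with rfl | he
      · intro y
        have h0 : 𝟙 (EtCoh.const X1 (ZMod (ℓ ^ 0))) = 0 := by
          have hC : 𝟙 (AddCommGrpCat.of (ULift.{u + 1} (ZMod (ℓ ^ 0)))) = 0 := AddCommGrpCat.ext fun x =>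
            haveI : Subsingleton (ZMod (ℓ ^ 0)) := inferInstanceAs (Subsingleton (ZMod 1))
            ULift.ext _ _ (Subsingleton.elim _ _)
          haveI : PreservesFiniteLimits (constantSheaf X1.smallEtaleTopology AddCommGrpCat.{u + 1}) := by
            dsimp only [constantSheaf]
            infer_instance
          haveI : (constantSheaf X1.smallEtaleTopology AddCommGrpCat.{u + 1}).Additive :=
            Functor.additive_of_preserves_binary_products _
          rw [← CategoryTheory.Functor.map_id, hC, Functor.map_zero]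
        refine ⟨0, ?_⟩
        haveI : (EtCoh.pull (pullback.fst p h)).IsLeftAdjoint := (EtCoh.pullPushAdj _).isLeftAdjoint
        haveI : (EtCoh.pull (pullback.fst p h)).Additive := { }
        rw [map_zero, ← Ext.comp_mk₀_id y, ← CategoryTheory.Functor.map_id, h0, Functor.map_zero, Ext.mk₀_zero, Ext.comp_zero]
      · have hℓL : ℓ ∈ L := hr.2 ℓ hℓ (dvd_pow_self ℓ he.ne')
        exact surjective_of_isPullback hA (IsPullback.of_hasPullback g (p ≫ W.hom ≫ V.hom)) _ j
          (H X1 (p ≫ W.hom ≫ V.hom) (isAffine_of_isAffineHom p) inferInstance inferInstance ℓ hℓ hℓL e he j hj)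
  · refine (mono_iff_stalks (A := AddCommGrpCat.{u + 1}) _).2 fun Ω _ _ ξ => (AddCommGrpCat.mono_iff_injective _).2 ?_
    rw [injective_iff_map_eq_zero]
    intro x hx
    obtain ⟨e, he, hex⟩ := hG Ω ξ x
    refine eq_zero_of_coprime hex ?_ (hd e he)
    obtain ⟨T, t, s, rfl⟩ := exists_germ (A := AddCommGrpCat.{u + 1}) ξ x
    rw [germ_natural_apply] at hx
    rw [← map_nsmul]
    exact (congrArg _ (ConsEffaceLib.app_nsmul_id _ d T s).symm).trans hx

/-- Acyclicity is stable under locally quasi-finite base change. -/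
theorem isAcyclicN_baseChange_lqf [QuasiCompact g] [QuasiSeparated g] (hL : ∃ ℓ ∈ L, ℓ.Prime)
    (hg : EtAcyc.IsAcyclicN g L n) {X' Y' : Scheme.{u}} (i : Y' ⟶ Y) [LocallyQuasiFinite i]
    [LocallyOfFiniteType i] {a : X' ⟶ X} {g' : X' ⟶ Y'} (sq : IsPullback a g' g i) :
    EtAcyc.IsAcyclicN g' L n := by
  haveI : QuasiCompact g' := MorphismProperty.of_isPullback sq ‹QuasiCompact g›
  haveI : QuasiSeparated g' := MorphismProperty.of_isPullback sq ‹QuasiSeparated g›
  have hs : Function.Surjective g.base := ((Groth.Agent.S3511.result g L hL n).1 hg).1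
  refine isAcyclicN_of_const_affine g' (MorphismProperty.of_isPullback (P := @AlgebraicGeometry.Surjective) sq ⟨hs⟩).surj
    L n fun Y'' j _ hj hj' ℓ hℓ hℓL ν _ q hq => ?_
  haveI := hj
  haveI := hj'
  exact CovDevLib.surjective_of_isPullback ((IsPullback.of_hasPullback g' j).paste_horiz sq)
    (IsPullback.of_hasPullback g (j ≫ i)) _ q (bijective_const_of_acyclicN g hg (j ≫ i) hℓ hℓL ν q hq).2

end EtAcycFibLib
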