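import Groth.Agent.EtAcycFibLib.Base
import Groth.Agent.EtBcQLib.Strict

/-!
# Base change along locally quasi-finite morphisms for a locally acyclic morphism
-/

set_option autoImplicit false
set_option linter.all false
set_option backward.isDefEq.respectTransparency false
set_option backward.isDefEq.respectTransparency.types false
set_option synthInstance.maxHeartbeats 400000
set_option maxHeartbeats 2000000

universe u

open CategoryTheory CategoryTheory.Limits CategoryTheory.Abelian AlgebraicGeometry Opposite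
open Groth.Agent Groth.Agent.EtShLib EtRpushStalkLib EtBcQLib

noncomputable section

namespace EtAcycFibLib

attribute [local instance] EtSliceLib.pullExact

section Stalk

variable {X S T Y : Scheme.{u}} (g : T ⟶ S) [QuasiCompact g] [QuasiSeparated g] (f : X ⟶ S) (h : Y ⟶ X)
  [QuasiCompact h] [QuasiSeparated h] (e : Y ⟶ T) (c : IsPullback e h g f) [PreservesFiniteLimits (EtCoh.pull e)]
  {RS : Type u} [CommRing RS] [HenselianLocalRing RS] [IsSepClosed (IsLocalRing.ResidueField RS)]
  {gS : Spec (CommRingCat.of RS) ⟶ S}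
  {RX : Type u} [CommRing RX] [HenselianLocalRing RX] [IsSepClosed (IsLocalRing.ResidueField RX)]
  {gX : Spec (CommRingCat.of RX) ⟶ X} (ψ : Spec (CommRingCat.of RX) ⟶ Spec (CommRingCat.of RS))
  (hψ : ψ ≫ gS = gX ≫ f) (hc : ψ.base (IsLocalRing.closedPoint RX) = IsLocalRing.closedPoint RS)
  {Q : Scheme.{u}} {bX : Q ⟶ Spec (CommRingCat.of RX)} {aX : Q ⟶ T} (sqX : IsPullback aX bX g (gX ≫ f))
  (CX : Chart gX) {P : Scheme.{u}} {aS : P ⟶ T} {bS : P ⟶ Spec (CommRingCat.of RS)}
  (sqS : IsPullback aS bS g gS) (CS : Chart gS)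
  (m : Q ⟶ P) (wm : m ≫ aS = aX) (hm : m ≫ bS = bX ≫ ψ) [PreservesFiniteLimits (EtCoh.pull m)]

include hψ hc sqX CX sqS CS wm hm in
/-- The stalk of the base change morphism is injective when pullback between the fibres is. -/
theorem mono_stk_of_injective_via (F : EtCoh.Ab T) (q : ℕ)
    (H : Function.Injective (EtCore.HpullVia m aS aX wm F q)) :
    Mono ((stk (A := AddCommGrpCat.{u + 1}) (closedPt RX ≫ gX)).map (EtBC.bcQ g f h e c.w q F)) := by
  let aY : Q ⟶ Y := c.lift aX (bX ≫ gX) (by rw [sqX.w, Category.assoc])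
  have wa : aY ≫ e = aX := c.lift_fst _ _ _
  have hY : aY ≫ h = bX ≫ gX := c.lift_snd _ _ _
  have sqY : IsPullback aY bX h gX := IsPullback.of_right (by rw [wa]; exact sqX) hY c
  have E := congrArg (fun t : (stkDelta g gS).F q ⟶ (hDelta aX).F q => t.app F)
    (fam_eq g f h e c ψ hψ sqY CX aX wa sqS CS m wm hm q)
  haveI : IsIso (pi f gS (closedPt RX ≫ gX) (closedPt RX ≫ ψ) (hj f ψ hψ)) :=
    isIso_pi f gS (closedPt RX ≫ gX) (closedPt RX ≫ ψ) (hj f ψ hψ) (by
      show ψ.base ((closedPt RX).base default) = _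
      rw [closedPt_base, hc])
  haveI : Mono ((viaFam m aS aX wm q).app F) := (AddCommGrpCat.mono_iff_injective _).2 H
  haveI h1 : Mono ((bcFam g f h e c.w gS (closedPt RX ≫ ψ) (hj f ψ hψ) sqY CX aX wa q).app F) := by
    rw [E, NatTrans.comp_app]
    infer_instance
  let A := (pi f gS (closedPt RX ≫ gX) (closedPt RX ≫ ψ) (hj f ψ hψ)).app ((EtCoh.Rpush g q).obj F)
  let B := (stk (A := AddCommGrpCat.{u + 1}) (closedPt RX ≫ gX)).map (EtBC.bcQ g f h e c.w q F)
  haveI : IsIso A := inferInstance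
  refine ⟨fun a b hab => ?_⟩
  have h3 : (a ≫ inv A) ≫ (bcFam g f h e c.w gS (closedPt RX ≫ ψ) (hj f ψ hψ) sqY CX aX wa q).app F =
      (b ≫ inv A) ≫ (bcFam g f h e c.w gS (closedPt RX ≫ ψ) (hj f ψ hψ) sqY CX aX wa q).app F := by
    show (a ≫ inv A) ≫ A ≫ B ≫ _ = (b ≫ inv A) ≫ A ≫ B ≫ _
    simp only [Category.assoc, IsIso.inv_hom_id_assoc]
    exact (Category.assoc _ _ _).symm.trans ((congrArg (· ≫ _) hab).trans (Category.assoc _ _ _))
  exact (cancel_mono (inv A)).1 ((cancel_mono _).1 h3)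

end Stalk

/-- The base change morphism is injective when pullback between the fibres over strict henselisations is. -/
theorem mono_bcQ_of_injective_via {X S T Y : Scheme.{u}} (f : X ⟶ S) (g : T ⟶ S) [QuasiCompact g] [QuasiSeparated g]
    (h : Y ⟶ X) (e : Y ⟶ T) (c : IsPullback e h g f) [PreservesFiniteLimits (EtCoh.pull e)] (F : EtCoh.Ab T) (q : ℕ)
    (H : ∀ (x : X) (RS : Type u) [CommRing RS] [IsLocalRing RS] [Algebra (S.presheaf.stalk (f.base x)) RS]
      [IsLocalHom (algebraMap (S.presheaf.stalk (f.base x)) RS)]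
      [Hensel.IsStrictHenselization (S.presheaf.stalk (f.base x)) RS]
      (RX : Type u) [CommRing RX] [IsLocalRing RX] [Algebra (X.presheaf.stalk x) RX]
      [IsLocalHom (algebraMap (X.presheaf.stalk x) RX)] [Hensel.IsStrictHenselization (X.presheaf.stalk x) RX]
      (ψ : RS →+* RX) [IsLocalHom ψ],
      ψ.comp (algebraMap (S.presheaf.stalk (f.base x)) RS) =
        (algebraMap (X.presheaf.stalk x) RX).comp (f.stalkMap x).hom →
      ∀ (PS PX : Scheme.{u}) (aS : PS ⟶ T) (bS : PS ⟶ Spec (CommRingCat.of RS))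
        (_ : IsPullback aS bS g (Hens2.specOf S (f.base x) RS))
        (aX : PX ⟶ T) (bX : PX ⟶ Spec (CommRingCat.of RX))
        (_ : IsPullback aX bX g (Hens2.specOf X x RX ≫ f))
        (m : PX ⟶ PS) (w : m ≫ aS = aX), m ≫ bS = bX ≫ Spec.map (CommRingCat.ofHom ψ) →
        ∀ [PreservesFiniteLimits (EtCoh.pull m)], Function.Injective (EtCore.HpullVia m aS aX w F q)) :
    Mono (EtBC.bcQ g f h e c.w q F) := by
  refine (mono_iff_stalks _).2 fun Ω _ _ ξ => ?_
  let x := ξ.base default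
  obtain ⟨RS, _, _, _, _, hS⟩ := Groth.Agent.S0537.result (S.presheaf.stalk (f.base x))
  obtain ⟨RX, _, _, _, _, hX⟩ := Groth.Agent.S0537.result (X.presheaf.stalk x)
  haveI : HenselianLocalRing RS := hS.henselian
  haveI : HenselianLocalRing RX := hX.henselian
  haveI : IsSepClosed (IsLocalRing.ResidueField RS) := hS.isSepClosure.sep_closed
  haveI : IsSepClosed (IsLocalRing.ResidueField RX) := hX.isSepClosure.sep_closed
  haveI : QuasiCompact h := MorphismProperty.of_isPullback c ‹QuasiCompact g›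
  haveI : QuasiSeparated h := MorphismProperty.of_isPullback c ‹QuasiSeparated g›
  obtain ⟨ψ, hl, hψ⟩ := exists_shHom f x RS RX
  haveI := hl
  obtain ⟨CS⟩ := exists_chart (f.base x) RS
  obtain ⟨CX⟩ := exists_chart x RX
  let gS := Hens2.specOf S (f.base x) RS
  let gX' := Hens2.specOf X x RX ≫ f
  have hw : pullback.fst g gX' ≫ g = (pullback.snd g gX' ≫ Spec.map (CommRingCat.ofHom ψ)) ≫ gS := by
    rw [Category.assoc, specOf_comp f x RS RX ψ hψ]
    exact pullback.condition
  let m : pullback g gX' ⟶ pullback g gS := pullback.lift (pullback.fst g gX') _ hw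
  have wm : m ≫ pullback.fst g gS = pullback.fst g gX' := pullback.lift_fst _ _ _
  have hm : m ≫ pullback.snd g gS = pullback.snd g gX' ≫ Spec.map (CommRingCat.ofHom ψ) := pullback.lift_snd _ _ _
  have hmono := mono_stk_of_injective_via g f h e c (Spec.map (CommRingCat.ofHom ψ)) (specOf_comp f x RS RX ψ hψ)
    (IsLocalRing.comap_closedPoint ψ) (IsPullback.of_hasPullback g gX') CX (IsPullback.of_hasPullback g gS) CS
    m wm hm F q (H x RS RX ψ hψ _ _ _ _ (IsPullback.of_hasPullback g gS) _ _ (IsPullback.of_hasPullback g gX') m wm hm)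
  have hξ : (closedPt RX ≫ Hens2.specOf X x RX).base default = ξ.base default := by
    show (X.fromSpecStalk x).base ((Spec.map _).base ((closedPt RX).base default)) = x
    rw [closedPt_base]
    exact (congrArg (X.fromSpecStalk x).base
      (IsLocalRing.comap_closedPoint (algebraMap (X.presheaf.stalk x) RX))).trans Scheme.fromSpecStalk_closedPoint
  obtain ⟨φ⟩ := nonempty_stk_iso_of_eq (A := AddCommGrpCat.{u + 1})
    (ξ := closedPt RX ≫ Hens2.specOf X x RX) (ξ' := ξ) hξ.symm
  rw [← NatIso.naturality_1 φ]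
  infer_instance

/-- Base change along a quasi-finite morphism for a locally acyclic morphism. -/
theorem bcQ_of_isLocAcyclicN {X S T Y : Scheme.{u}} (f : X ⟶ S) (g : T ⟶ S) [QuasiCompact g] [QuasiSeparated g]
    [LocallyQuasiFinite g] [LocallyOfFiniteType g]
    (h : Y ⟶ X) (e : Y ⟶ T) (c : IsPullback e h g f) [PreservesFiniteLimits (EtCoh.pull e)]
    {L : Set ℕ} {n : ℕ} (hL : ∃ ℓ ∈ L, ℓ.Prime) (hf : EtAcyc.IsLocAcyclicN f L n)
    {F : EtCoh.Ab T} (hF : EtAcyc.IsLTorsion L F) :
    (∀ q : ℕ, q ≤ n → IsIso (EtBC.bcQ g f h e c.w q F)) ∧ Mono (EtBC.bcQ g f h e c.w (n + 1) F) := by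
  have key : ∀ (x : X) (RS : Type u) [CommRing RS] [IsLocalRing RS] [Algebra (S.presheaf.stalk (f.base x)) RS]
      [IsLocalHom (algebraMap (S.presheaf.stalk (f.base x)) RS)]
      [Hensel.IsStrictHenselization (S.presheaf.stalk (f.base x)) RS]
      (RX : Type u) [CommRing RX] [IsLocalRing RX] [Algebra (X.presheaf.stalk x) RX]
      [IsLocalHom (algebraMap (X.presheaf.stalk x) RX)] [Hensel.IsStrictHenselization (X.presheaf.stalk x) RX]
      (ψ : RS →+* RX) [IsLocalHom ψ],
      ψ.comp (algebraMap (S.presheaf.stalk (f.base x)) RS) =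
        (algebraMap (X.presheaf.stalk x) RX).comp (f.stalkMap x).hom →
      ∀ (PS PX : Scheme.{u}) (aS : PS ⟶ T) (bS : PS ⟶ Spec (CommRingCat.of RS))
        (_ : IsPullback aS bS g (Hens2.specOf S (f.base x) RS))
        (aX : PX ⟶ T) (bX : PX ⟶ Spec (CommRingCat.of RX))
        (_ : IsPullback aX bX g (Hens2.specOf X x RX ≫ f))
        (m : PX ⟶ PS) (w : m ≫ aS = aX), m ≫ bS = bX ≫ Spec.map (CommRingCat.ofHom ψ) →
        ∀ [PreservesFiniteLimits (EtCoh.pull m)],
          (∀ q, q ≤ n → Function.Bijective (EtCore.HpullVia m aS aX w F q)) ∧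
            Function.Injective (EtCore.HpullVia m aS aX w F (n + 1)) := by
    intro x RS _ _ _ _ _ RX _ _ _ _ _ ψ _ hψ PS PX aS bS sqS aX bX sqX m w hm _
    letI : Algebra RS RX := ψ.toAlgebra
    haveI : IsLocalHom (algebraMap RS RX) := ‹IsLocalHom ψ›
    have h1 : EtAcyc.IsAcyclicN (Spec.map (CommRingCat.ofHom ψ)) L n := hf x RS RX hψ
    haveI : LocallyQuasiFinite bS := MorphismProperty.of_isPullback sqS ‹LocallyQuasiFinite g›
    haveI : LocallyOfFiniteType bS := MorphismProperty.of_isPullback sqS ‹LocallyOfFiniteType g›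
    have sq : IsPullback bX m (Spec.map (CommRingCat.ofHom ψ)) bS := by
      refine (IsPullback.of_right ?_ hm sqS).flip
      rw [w, specOf_comp f x RS RX ψ hψ]
      exact sqX
    have hc := compN_of_acyclicN (isAcyclicN_baseChange_lqf hL h1 bS sq) _ (EtAcycLib.isLTorsion_pull_any aS hF)
    have hb : ∀ q, Function.Bijective
        ((EtCoh.HF PX q).map (((EtCore.pullComp m aS).symm ≪≫ EtCore.pullCongr w).app F).hom).hom :=
      fun q => ConcreteCategory.bijective_of_isIso
        ((EtCoh.HF PX q).map (((EtCore.pullComp m aS).symm ≪≫ EtCore.pullCongr w).app F).hom)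
    exact ⟨fun q hq => (hb q).comp (hc.1 q hq), (hb (n + 1)).1.comp hc.2⟩
  refine ⟨fun q hq => (EtBcQLib.isIso_bcQ_iff f g h e c F q).1 ?_, mono_bcQ_of_injective_via f g h e c F _ ?_⟩
  · intro x RS _ _ _ _ _ RX _ _ _ _ _ ψ _ hψ PS PX aS bS sqS aX bX sqX m w hm _
    exact (key x RS RX ψ hψ PS PX aS bS sqS aX bX sqX m w hm).1 q hq
  · intro x RS _ _ _ _ _ RX _ _ _ _ _ ψ _ hψ PS PX aS bS sqS aX bX sqX m w hm _
    exact (key x RS RX ψ hψ PS PX aS bS sqS aX bX sqX m w hm).2

end EtAcycFibLib
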