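import Groth.Agent.FPColimLib.Algebra
import Groth.Agent.EtStrictAcycLib.Stages
import Groth.Agent.CovDevLib.Base
import Groth.Agent.DivSeqLib.Components
import Groth.Prelude.Def_EtAcyc
import Mathlib.AlgebraicGeometry.Morphisms.QuasiFinite
import Mathlib.RingTheory.Localization.Away.Basic
import Mathlib.RingTheory.Localization.Integral
import Mathlib.RingTheory.Spectrum.Prime.Chevalley
import Mathlib.Topology.Spectral.ConstructibleTopology

/-!
# Classes vanishing on all geometric fibres vanish on a quasi-finite covering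
-/

set_option autoImplicit false
set_option linter.all false
set_option backward.isDefEq.respectTransparency false
set_option backward.isDefEq.respectTransparency.types false
set_option synthInstance.maxHeartbeats 400000
set_option maxHeartbeats 2000000

universe u

open CategoryTheory CategoryTheory.Limits CategoryTheory.Abelian AlgebraicGeometry Opposite DescSecLib
open scoped Topology
open Groth.Agent Groth.Agent.EtShLib

noncomputable section

namespace EtAcycFibLib

attribute [local instance] EtSliceLib.pullExact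

section Kills

variable {X : Scheme.{u}} (G : EtCoh.Ab X) {q : ℕ} (ξ : EtCoh.H X G q)

/-- The class vanishes after pullback. -/
def Kills {P : Scheme.{u}} (f : P ⟶ X) : Prop := EtCore.Hpull f G q ξ = 0

theorem Kills.comp {P Q : Scheme.{u}} {f : P ⟶ X} (hf : Kills G ξ f) (h : Q ⟶ P) (f' : Q ⟶ X) (w : h ≫ f = f') :
    Kills G ξ f' := by
  show EtCore.Hpull f' G q ξ = 0
  rw [← CovDevLib.Hpull_comp h f f' w G q ξ, show EtCore.Hpull f G q ξ = 0 from hf, map_zero, Ext.zero_comp]

/-- The class at the base of the over category. -/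
def atBase : EtCoh.H (Over.mk (𝟙 X)).left (etSys.M G (Over.mk (𝟙 X))) q := EtCore.Hpull (𝟙 X) G q ξ

theorem kills_iff {P : Scheme.{u}} (f : P ⟶ X) :
    Kills G ξ f ↔ etSys.Hmap G q (EtAcycLib.toBase f) (atBase G ξ) = 0 := by
  haveI := EtAcycLib.isIso_theta G (EtAcycLib.toBase f)
  haveI : PreservesFiniteLimits (EtCoh.pull (EtAcycLib.toBase f).left) := EtSliceLib.pullExact f
  rw [EtAcycLib.hmap_eq_Hpull]
  have h0 := CovDevLib.Hpull_comp f (𝟙 X) f (Category.comp_id f) G q ξ
  constructor
  · intro h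
    have h1 : EtCore.Hpull f ((EtCoh.pull (𝟙 X)).obj G) q (EtCore.Hpull (𝟙 X) G q ξ) = 0 :=
      (EtAcycLib.bijective_mk₀_iso_postcomp (asIso ((etSys.c f (𝟙 X) f (Category.comp_id f)).app G)) q).1
        ((h0.trans h).trans (Ext.zero_comp _ _ _ _ _).symm)
    exact (congrArg (fun z => Ext.comp z _ (add_zero q)) h1).trans (Ext.zero_comp _ _ _ _ _)
  · intro h
    have h1 : EtCore.Hpull f ((EtCoh.pull (𝟙 X)).obj G) q (EtCore.Hpull (𝟙 X) G q ξ) = 0 :=
      (EtAcycLib.bijective_mk₀_iso_postcomp (asIso (etSys.θ G (EtAcycLib.toBase f))) q).1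
        (h.trans (Ext.zero_comp _ _ _ _ _).symm)
    exact (h0.symm.trans ((congrArg (fun z => Ext.comp z _ (add_zero q)) h1).trans (Ext.zero_comp _ _ _ _ _)) :)

end Kills

section Stages

variable {A Ω : Type u} [CommRing A] [CommRing Ω] [Algebra A Ω]

open FPColimLib MvPolynomial

/-- The spectrum of a stage. -/
def stageSpec : (Stage A Ω)ᵒᵖ ⥤ Scheme.{u} :=
  ((diagram (R := A) (A := Ω)) ⋙ Under.forget (CommRingCat.of A)).op ⋙ Scheme.Spec

/-- The cone of the stages. -/
def stageCone : Cone (stageSpec (A := A) (Ω := Ω)) :=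
  Scheme.Spec.mapCone ((Under.forget (CommRingCat.of A)).mapCocone (cocone (R := A) (A := Ω))).op

/-- The spectrum is the limit of the spectra of the stages. -/
def stageLimit : IsLimit (stageCone (A := A) (Ω := Ω)) :=
  haveI : IsFiltered (Stage A Ω) := inferInstance
  haveI : CategoryTheory.IsConnected (Stage A Ω) := IsFiltered.isConnected _
  isLimitOfPreserves Scheme.Spec (isColimitOfPreserves (Under.forget (CommRingCat.of A)) isColimit).op

/-- The structure morphisms of the stages. -/
abbrev stageHom (i : (Stage A Ω)ᵒᵖ) : stageSpec.obj i ⟶ Spec (CommRingCat.of A) :=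
  Spec.map (CommRingCat.ofHom (algebraMap A (Q i.unop)))

theorem stageHom_map {i j : (Stage A Ω)ᵒᵖ} (a : i ⟶ j) : stageSpec.map a ≫ stageHom j = stageHom i := by
  show Spec.map _ ≫ Spec.map _ = Spec.map _
  rw [← Spec.map_comp]
  exact congrArg Spec.map (Under.w ((diagram (R := A) (A := Ω)).map a.unop))

theorem stageCone_hom (i : (Stage A Ω)ᵒᵖ) :
    stageCone.π.app i ≫ stageHom i = Spec.map (CommRingCat.ofHom (algebraMap A Ω)) := by
  show Spec.map _ ≫ Spec.map _ = Spec.map _
  rw [← Spec.map_comp]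
  exact congrArg Spec.map (Under.w ((cocone (R := A) (A := Ω)).ι.app i.unop))

variable {X : Scheme.{u}} (g : X ⟶ Spec (CommRingCat.of A))

/-- The preimages of the stages. -/
def preD : (Stage A Ω)ᵒᵖ ⥤ Scheme.{u} where
  obj i := pullback g (stageHom i)
  map {i j} a := pullback.map g (stageHom i) g (stageHom j) (𝟙 X) (stageSpec.map a) (𝟙 _) (by simp)
    (by rw [Category.comp_id, stageHom_map])
  map_id i := by
    apply pullback.hom_ext <;> simp
  map_comp a b := by
    apply pullback.hom_ext <;> simp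

/-- The projections of the preimages. -/
def preT : preD (Ω := Ω) g ⟶ (Functor.const _).obj X where
  app i := pullback.fst g (stageHom i)
  naturality i j a := by
    simp [preD]

/-- The geometric fibre over the system. -/
def preCone : Cone (preD (Ω := Ω) g) where
  pt := pullback g (Spec.map (CommRingCat.ofHom (algebraMap A Ω)))
  π :=
    { app := fun i => pullback.map g _ g (stageHom i) (𝟙 X) (stageCone.π.app i) (𝟙 _) (by simp)
        (by rw [Category.comp_id, stageCone_hom])
      naturality := fun i j a => by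
        apply pullback.hom_ext
        · simp [preD]
        · have h := stageCone.w a
          simp only [preD, Functor.const_obj_map, Category.id_comp, Category.assoc, pullback.lift_snd,
            pullback.lift_snd_assoc]
          exact congrArg (pullback.snd g _ ≫ ·) h.symm }

/-- The geometric fibre is the limit of the preimages. -/
def preLimit : IsLimit (preCone (Ω := Ω) g) := by
  let i₀ : (Stage A Ω)ᵒᵖ := Classical.choice IsCofiltered.nonempty
  have hv : ∀ (s : Cone (preD (Ω := Ω) g)) (i), s.π.app i ≫ pullback.fst g (stageHom i) =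
      s.π.app i₀ ≫ pullback.fst g (stageHom i₀) := by
    intro s i
    have e : ∀ {k l} (a : k ⟶ l), s.π.app l ≫ pullback.fst g (stageHom l) = s.π.app k ≫ pullback.fst g (stageHom k) :=
      fun {k l} a => by
        rw [← s.w a, Category.assoc]
        exact congrArg (s.π.app k ≫ ·) ((preT (Ω := Ω) g).naturality a |>.trans (Category.comp_id _))
    exact (e (IsCofiltered.minToLeft i i₀)).trans (e (IsCofiltered.minToRight i i₀)).symm
  let s' : Cone (preD (Ω := Ω) g) → Cone (stageSpec (A := A) (Ω := Ω)) := fun s =>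
    { pt := s.pt
      π :=
        { app := fun i => s.π.app i ≫ pullback.snd g (stageHom i)
          naturality := fun i j a => by
            show 𝟙 _ ≫ _ = (s.π.app i ≫ _) ≫ stageSpec.map a
            rw [Category.id_comp, ← s.w a, Category.assoc, Category.assoc]
            exact congrArg (s.π.app i ≫ ·) (pullback.lift_snd _ _ _) } }
  have hw : ∀ s : Cone (preD (Ω := Ω) g), (s.π.app i₀ ≫ pullback.fst g (stageHom i₀)) ≫ g =
      stageLimit.lift (s' s) ≫ Spec.map (CommRingCat.ofHom (algebraMap A Ω)) := by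
    intro s
    rw [← stageCone_hom i₀, ← Category.assoc (stageLimit.lift (s' s)), stageLimit.fac (s' s) i₀]
    show _ = (s.π.app i₀ ≫ _) ≫ _
    rw [Category.assoc, Category.assoc, pullback.condition]
  refine
    { lift := fun s => pullback.lift (s.π.app i₀ ≫ pullback.fst g (stageHom i₀)) (stageLimit.lift (s' s)) (hw s)
      fac := fun s i => ?_
      uniq := fun s m hm => ?_ }
  · apply pullback.hom_ext
    · simp [preCone, hv s i]
    · simp only [preCone, Category.assoc, pullback.lift_snd, pullback.lift_snd_assoc]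
      exact stageLimit.fac (s' s) i
  · apply pullback.hom_ext
    · rw [pullback.lift_fst, ← hm i₀]
      simp [preCone]
    · rw [pullback.lift_snd]
      refine stageLimit.uniq (s' s) _ fun i => ?_
      show _ = s.π.app i ≫ _
      rw [← hm i]
      simp [preCone]

variable (G : EtCoh.Ab X) {q : ℕ} (ξ : EtCoh.H X G q) [CompactSpace X] [QuasiSeparatedSpace X]

/-- A class killed by the limit is killed by a stage. -/
theorem exists_stage_kills (hξ : Kills G ξ (pullback.fst g (Spec.map (CommRingCat.ofHom (algebraMap A Ω))))) :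
    ∃ i : Stage A Ω, Kills G ξ (pullback.fst g (stageHom (op i))) := by
  haveI hA : ∀ i, IsAffineHom (stageHom (A := A) (Ω := Ω) i) := fun i => by
    haveI : IsAffine (stageSpec (A := A) (Ω := Ω) |>.obj i) := inferInstanceAs (IsAffine (Spec _))
    exact isAffineHom_of_isAffine _
  haveI : ∀ i, QuasiCompact (pullback.fst g (stageHom (A := A) (Ω := Ω) i)) := fun i =>
    MorphismProperty.pullback_fst (P := @QuasiCompact) _ _ inferInstance
  haveI : ∀ i, QuasiSeparated (pullback.fst g (stageHom (A := A) (Ω := Ω) i)) := fun i =>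
    MorphismProperty.pullback_fst (P := @QuasiSeparated) _ _ inferInstance
  haveI : ∀ i, CompactSpace ((preD (Ω := Ω) g).obj i) := fun i =>
    QuasiCompact.compactSpace_of_compactSpace (pullback.fst g (stageHom i))
  haveI : ∀ i, QuasiSeparatedSpace ((preD (Ω := Ω) g).obj i) := fun i =>
    quasiSeparatedSpace_of_quasiSeparated (pullback.fst g (stageHom i))
  haveI : ∀ i j (a : i ⟶ j), IsAffineHom ((preD (Ω := Ω) g).map a) := fun i j a => by
    haveI : IsAffine (stageSpec (A := A) (Ω := Ω) |>.obj i) := inferInstanceAs (IsAffine (Spec _))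
    haveI : IsAffine (stageSpec (A := A) (Ω := Ω) |>.obj j) := inferInstanceAs (IsAffine (Spec _))
    haveI hi : IsAffineHom (pullback.fst g (stageHom i)) := MorphismProperty.pullback_fst (P := @IsAffineHom) _ _ (hA i)
    haveI hj : IsAffineHom (pullback.fst g (stageHom j)) := MorphismProperty.pullback_fst (P := @IsAffineHom) _ _ (hA j)
    haveI : IsAffineHom ((preD (Ω := Ω) g).map a ≫ pullback.fst g (stageHom j)) := by
      rw [show (preD (Ω := Ω) g).map a ≫ pullback.fst g (stageHom j) = pullback.fst g (stageHom i) from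
        (preT (Ω := Ω) g).naturality a |>.trans (Category.comp_id _)]
      exact hi
    exact IsAffineHom.of_comp ((preD (Ω := Ω) g).map a) (pullback.fst g (stageHom j))
  let i₀ : (Stage A Ω)ᵒᵖ := Classical.choice IsCofiltered.nonempty
  have hw : ∀ j, (preCone (Ω := Ω) g).π.app j ≫ (preT g).app j =
      pullback.fst g (Spec.map (CommRingCat.ofHom (algebraMap A Ω))) := fun j =>
    (pullback.lift_fst _ _ _).trans (Category.comp_id _)
  let x := etSys.Hmap G q (EtAcycLib.toBase ((preT (Ω := Ω) g).app i₀)) (atBase G ξ)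
  have hx : etSys.Hmap G q (EtContLib.stgPt (preT (Ω := Ω) g) (preCone g) _ hw i₀) x = 0 := by
    refine (etSys.Hmap_comp G q _ _ (atBase G ξ)).symm.trans ?_
    refine Eq.trans ?_ ((kills_iff G ξ _).1 hξ)
    exact congrArg (fun t => etSys.Hmap G q t (atBase G ξ)) (Over.OverMorphism.ext (hw i₀))
  obtain ⟨k, a, hk⟩ := EtStrictAcycLib.exists_Hmap_stgMap G (preT (Ω := Ω) g) (preCone g) (preLimit g) _ hw q i₀ x hx
  refine ⟨k.unop, (kills_iff G ξ _).2 ?_⟩
  refine Eq.trans ?_ hk
  refine Eq.trans ?_ (etSys.Hmap_comp G q _ _ (atBase G ξ))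
  exact congrArg (fun t => etSys.Hmap G q t (atBase G ξ))
    (Over.OverMorphism.ext ((preT (Ω := Ω) g).naturality a |>.trans (Category.comp_id _)).symm)

end Stages

section Refine

variable {A : Type u} [CommRing A] {Ω : Type u} [Field Ω] [Algebra A Ω]

open FPColimLib

/-- A stage can be refined to a quasi-finite algebra of finite presentation. -/
theorem exists_qf_refinement
    (hΩ : ∀ z : Ω, ∃ (P : Polynomial A) (d : ℕ), P.natDegree ≤ d ∧ algebraMap A Ω (P.coeff d) ≠ 0 ∧
      Polynomial.aeval z P = 0)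
    (i : Stage A Ω) :
    ∃ (B : Type u) (_ : CommRing B) (_ : Algebra A B), Algebra.FinitePresentation A B ∧ Algebra.QuasiFinite A B ∧
      ∃ (j : Q i →ₐ[A] B) (φ : B →ₐ[A] Ω), φ.comp j = toA i := by
  classical
  choose P d hd hne hP using hΩ
  let b : A := ∏ z ∈ i.s, (P z).coeff (d z)
  have hb : IsUnit (algebraMap A Ω b) := by
    rw [map_prod]
    exact IsUnit.prod_iff.2 fun z _ => (hne z).isUnit
  let Ab := Localization.Away b
  let ψ : Ab →ₐ[A] Ω := IsLocalization.liftAlgHom (M := Submonoid.powers b) (f := Algebra.ofId A Ω) fun y => by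
    obtain ⟨n, hn⟩ := y.2
    show IsUnit (algebraMap A Ω y.1)
    rw [← hn, map_pow]
    exact hb.pow n
  letI : Algebra Ab Ω := ψ.toRingHom.toAlgebra
  haveI : IsScalarTower A Ab Ω := IsScalarTower.of_algebraMap_eq fun a => (ψ.commutes a).symm
  let rel₁ : Finset (MvPolynomial i.s Ab) := i.t.image (MvPolynomial.map (algebraMap A Ab))
  let mon : i.s → MvPolynomial i.s Ab := fun z => Polynomial.aeval (MvPolynomial.X z : MvPolynomial i.s Ab) (P z.1)
  let I : Ideal (MvPolynomial i.s Ab) := Ideal.span ((rel₁ ∪ Finset.univ.image mon : Finset _) : Set _)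
  let B := MvPolynomial i.s Ab ⧸ I
  haveI hAb : Algebra.FinitePresentation A Ab := inferInstance
  haveI : Algebra.FinitePresentation Ab B := Algebra.FinitePresentation.quotient ⟨_, rfl⟩
  haveI : Algebra.FinitePresentation A B := Algebra.FinitePresentation.trans A Ab B
  have hgen : ∀ z : i.s, IsIntegral Ab (Ideal.Quotient.mk I (MvPolynomial.X z)) := fun z => by
    have hu : IsUnit (algebraMap A Ab ((P z.1).coeff (d z.1))) :=
      isUnit_of_dvd_unit (map_dvd _ (Finset.dvd_prod_of_mem (fun z => (P z).coeff (d z)) z.2))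
        (IsLocalization.Away.algebraMap_isUnit b)
    let M : Polynomial Ab := Polynomial.C ((hu.unit⁻¹ : Abˣ) : Ab) * (P z.1).map (algebraMap A Ab)
    refine ⟨M, Polynomial.monic_of_natDegree_le_of_coeff_eq_one (d z.1) ?_ ?_, ?_⟩
    · exact (Polynomial.natDegree_C_mul_le _ _).trans ((Polynomial.natDegree_map_le).trans (hd z.1))
    · rw [Polynomial.coeff_C_mul, Polynomial.coeff_map]
      exact hu.val_inv_mul
    · show Polynomial.aeval (Ideal.Quotient.mk I (MvPolynomial.X z)) M = 0
      rw [map_mul, Polynomial.aeval_map_algebraMap]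
      refine mul_eq_zero_of_right _ ?_
      have h1 : Ideal.Quotient.mk I (mon z) = 0 :=
        Ideal.Quotient.eq_zero_iff_mem.2 (Ideal.subset_span (Finset.mem_union_right _ (Finset.mem_image_of_mem _ (Finset.mem_univ z))))
      rw [← Ideal.Quotient.mkₐ_eq_mk A I, Polynomial.aeval_algHom_apply, Ideal.Quotient.mkₐ_eq_mk]
      exact h1
  haveI : Algebra.IsIntegral Ab B := ⟨fun x => by
    obtain ⟨p, rfl⟩ := Ideal.Quotient.mk_surjective x
    induction p using MvPolynomial.induction_on with
    | C a => exact isIntegral_algebraMap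
    | add p q hp hq => rw [map_add]; exact (integralClosure Ab B).add_mem hp hq
    | mul_X p z hp => rw [map_mul]; exact (integralClosure Ab B).mul_mem hp (hgen z)⟩
  haveI : Algebra.FiniteType Ab B := by exact Algebra.FiniteType.of_finitePresentation (R := Ab) (A := B)
  haveI : Module.Finite Ab B := by exact Algebra.IsIntegral.finite (R := Ab) (A := B)
  haveI : Algebra.QuasiFinite A Ab := Algebra.QuasiFinite.of_isLocalization (Submonoid.powers b)
  haveI : Algebra.QuasiFinite A B := Algebra.QuasiFinite.trans A Ab B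
  let φ₀ : MvPolynomial i.s Ab →ₐ[Ab] Ω := MvPolynomial.aeval fun z : i.s => (z : Ω)
  have hI : I ≤ RingHom.ker φ₀ := by
    rw [Ideal.span_le]
    intro p hp
    rcases Finset.mem_union.1 hp with h | h
    · obtain ⟨p₀, hp₀, rfl⟩ := Finset.mem_image.1 h
      show φ₀ _ = 0
      rw [MvPolynomial.aeval_map_algebraMap]
      exact i.ht p₀ hp₀
    · obtain ⟨z, -, rfl⟩ := Finset.mem_image.1 h
      show φ₀ (Polynomial.aeval (MvPolynomial.X z : MvPolynomial i.s Ab) (P z.1)) = 0
      rw [← AlgHom.restrictScalars_apply A φ₀, ← Polynomial.aeval_algHom_apply, AlgHom.restrictScalars_apply,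
        MvPolynomial.aeval_X]
      exact hP z.1
  let φ : B →ₐ[A] Ω := (Ideal.Quotient.liftₐ I φ₀ fun a ha => hI ha).restrictScalars A
  let j : Q i →ₐ[A] B := Ideal.Quotient.liftₐ _ (MvPolynomial.aeval fun z : i.s => Ideal.Quotient.mk I (MvPolynomial.X z))
    fun p hp => by
      refine (Ideal.span_le.2 (fun p₀ hp₀ => ?_) : _ ≤ RingHom.ker
        (MvPolynomial.aeval (R := A) fun z : i.s => Ideal.Quotient.mk I (MvPolynomial.X z))) hp
      have hm : Ideal.Quotient.mk I (MvPolynomial.map (algebraMap A Ab) p₀) = 0 :=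
        Ideal.Quotient.eq_zero_iff_mem.2 (Ideal.subset_span (Finset.mem_union_left _ (Finset.mem_image_of_mem _ hp₀)))
      refine Eq.trans ?_ hm
      have e : (MvPolynomial.aeval (R := A) fun z : i.s => Ideal.Quotient.mk I (MvPolynomial.X z)) =
          ((Ideal.Quotient.mkₐ A I).comp (MvPolynomial.mapAlgHom (Algebra.ofId A Ab))) :=
        MvPolynomial.algHom_ext fun z => by simp
      exact AlgHom.congr_fun e p₀
  refine ⟨B, inferInstance, inferInstance, inferInstance, inferInstance, j, φ, ?_⟩
  refine Ideal.Quotient.algHom_ext _ (MvPolynomial.algHom_ext fun z => ?_)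
  show φ (j (Ideal.Quotient.mk _ (MvPolynomial.X z))) = toA i (Ideal.Quotient.mk _ (MvPolynomial.X z))
  rw [toA_mk, MvPolynomial.aeval_X]
  show φ (MvPolynomial.aeval (fun z : i.s => Ideal.Quotient.mk I (MvPolynomial.X z)) (MvPolynomial.X z)) = _
  rw [MvPolynomial.aeval_X]
  exact MvPolynomial.aeval_X _ _

end Refine

theorem exists_poly (Y : Scheme.{u}) [IsAffine Y] (y : Y) (Ω : Type u) [Field Ω] [Algebra (Y.residueField y) Ω]
    [Algebra.IsAlgebraic (Y.residueField y) Ω] (z : Ω) :
    ∃ (P : Polynomial Γ(Y, ⊤)) (d : ℕ), P.natDegree ≤ d ∧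
      (algebraMap (Y.residueField y) Ω).comp (Y.Γevaluation y).hom (P.coeff d) ≠ 0 ∧
      P.eval₂ ((algebraMap (Y.residueField y) Ω).comp (Y.Γevaluation y).hom) z = 0 := by
  classical
  letI : Algebra Γ(Y, ⊤) (Y.presheaf.stalk y) := Y.presheaf.algebra_section_stalk (⟨y, trivial⟩ : (⊤ : Y.Opens))
  let hY := isAffineOpen_top Y
  let p := (hY.primeIdealOf ⟨y, trivial⟩).asIdeal
  haveI : IsLocalization.AtPrime (Y.presheaf.stalk y) p := hY.isLocalization_stalk ⟨y, trivial⟩
  have hz : IsIntegral (Y.residueField y) z := Algebra.IsIntegral.isIntegral z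
  let μ := minpoly (Y.residueField y) z
  obtain ⟨μ₁, hμ₁, hdeg, hmon⟩ := Polynomial.lifts_and_degree_eq_and_monic
    (Polynomial.map_surjective _ (Y.residue_surjective y) μ : μ ∈ Polynomial.lifts (Y.residue y).hom) (minpoly.monic hz)
  obtain ⟨b, hb, hsupp⟩ : ∃ b : p.primeCompl,
      (IsLocalization.integerNormalization p.primeCompl μ₁).map (algebraMap Γ(Y, ⊤) (Y.presheaf.stalk y)) =
        (b : Γ(Y, ⊤)) • μ₁ ∧ (IsLocalization.integerNormalization p.primeCompl μ₁).support ⊆ μ₁.support := by
    obtain ⟨b, hb⟩ := IsLocalization.integerNormalization_map_to_map p.primeCompl μ₁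
    exact ⟨b, hb, IsLocalization.integerNormalization_support p.primeCompl μ₁⟩
  let Q := IsLocalization.integerNormalization p.primeCompl μ₁
  have hc : ∀ n, algebraMap Γ(Y, ⊤) (Y.presheaf.stalk y) (Q.coeff n) =
      algebraMap Γ(Y, ⊤) (Y.presheaf.stalk y) b * μ₁.coeff n := fun n => by
    rw [← Polynomial.coeff_map, hb, Polynomial.coeff_smul, Algebra.smul_def]
  refine ⟨Q, μ₁.natDegree, ?_, ?_, ?_⟩
  · refine Polynomial.natDegree_le_iff_coeff_eq_zero.2 fun n hn => Polynomial.notMem_support_iff.1 fun h => ?_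
    exact Polynomial.mem_support_iff.1 (hsupp h) (Polynomial.coeff_eq_zero_of_natDegree_lt hn)
  · show algebraMap _ Ω (Y.residue y (algebraMap Γ(Y, ⊤) (Y.presheaf.stalk y) (Q.coeff μ₁.natDegree))) ≠ 0
    rw [hc, hmon.coeff_natDegree, mul_one]
    exact ((IsLocalization.map_units (Y.presheaf.stalk y) b).map
      ((algebraMap (Y.residueField y) Ω).comp (Y.residue y).hom)).ne_zero
  · show Polynomial.eval₂ (((algebraMap (Y.residueField y) Ω).comp (Y.residue y).hom).comp
      (algebraMap Γ(Y, ⊤) (Y.presheaf.stalk y))) z Q = 0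
    rw [← Polynomial.eval₂_map, hb, Algebra.smul_def, Polynomial.algebraMap_apply, Polynomial.eval₂_mul,
      ← Polynomial.eval₂_map _ _ z (p := μ₁), hμ₁]
    exact mul_eq_zero_of_right _ (minpoly.aeval (Y.residueField y) z)

theorem exists_qf_nhd {X Y : Scheme.{u}} [IsAffine Y] [CompactSpace X] [QuasiSeparatedSpace X] (g : X ⟶ Y)
    (G : EtCoh.Ab X) {q : ℕ} (ξ : EtCoh.H X G q) (y : Y) (Ω : Type u) [Field Ω]
    [Algebra (Y.residueField y) Ω] [Algebra.IsAlgebraic (Y.residueField y) Ω]
    (hξ : Kills G ξ (pullback.fst g (EtAcyc.geomPt Y y Ω))) :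
    ∃ (Z : Scheme.{u}) (p : Z ⟶ Y), IsAffine Z ∧ LocallyQuasiFinite p ∧ LocallyOfFinitePresentation p ∧
      y ∈ Set.range p.base ∧ Kills G ξ (pullback.fst g p) := by
  let A : Type u := Γ(Y, ⊤)
  let φ : A →+* Ω := (algebraMap (Y.residueField y) Ω).comp (Y.Γevaluation y).hom
  letI : Algebra A Ω := φ.toAlgebra
  let gA : X ⟶ Spec (CommRingCat.of A) := g ≫ Y.isoSpec.hom
  have ht : EtAcyc.geomPt Y y Ω ≫ Y.isoSpec.hom = Spec.map (CommRingCat.ofHom (algebraMap A Ω)) := by
    show (Spec.map _ ≫ Spec.map (Y.residue y) ≫ Y.fromSpecStalk y) ≫ Y.isoSpec.hom = _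
    rw [Category.assoc, Category.assoc, Scheme.isoSpec_hom, Scheme.fromSpecStalk_toSpecΓ, ← Spec.map_comp,
      ← Spec.map_comp]
    rfl
  have w₁ : (pullback.fst gA (Spec.map (CommRingCat.ofHom (algebraMap A Ω)))) ≫ g =
      pullback.snd gA (Spec.map (CommRingCat.ofHom (algebraMap A Ω))) ≫ EtAcyc.geomPt Y y Ω := by
    rw [← cancel_mono Y.isoSpec.hom, Category.assoc, Category.assoc, ht]
    exact pullback.condition
  obtain ⟨i, hi⟩ := exists_stage_kills gA G ξ (hξ.comp G ξ (pullback.lift _ _ w₁) _ (pullback.lift_fst _ _ _))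
  obtain ⟨B, _, _, hfp, hqf, j, ψ, -⟩ := exists_qf_refinement (fun z => exists_poly Y y Ω z) i
  let p : Spec (CommRingCat.of B) ⟶ Y := Spec.map (CommRingCat.ofHom (algebraMap A B)) ≫ Y.isoSpec.inv
  haveI : LocallyQuasiFinite (Spec.map (CommRingCat.ofHom (algebraMap A B))) :=
    (HasRingHomProperty.Spec_iff (P := @LocallyQuasiFinite)).2 (RingHom.quasiFinite_algebraMap.2 hqf)
  haveI : LocallyOfFinitePresentation (Spec.map (CommRingCat.ofHom (algebraMap A B))) :=
    (HasRingHomProperty.Spec_iff (P := @LocallyOfFinitePresentation)).2 (RingHom.finitePresentation_algebraMap.2 hfp)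
  refine ⟨_, p, inferInstance, inferInstance, inferInstance,
    ⟨(Spec.map (CommRingCat.ofHom ψ.toRingHom)).base default, ?_⟩, ?_⟩
  · have e : Spec.map (CommRingCat.ofHom ψ.toRingHom) ≫ p = EtAcyc.geomPt Y y Ω := by
      rw [← cancel_mono Y.isoSpec.hom, ht]
      simp only [p, Category.assoc, Iso.inv_hom_id, Category.comp_id]
      rw [← Spec.map_comp]
      exact congrArg Spec.map (CommRingCat.hom_ext ψ.comp_algebraMap)
    refine (congrArg (fun t : Spec (CommRingCat.of Ω) ⟶ Y => t.base default) e).trans ?_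
    exact Scheme.fromSpecResidueField_apply y _
  · have w : pullback.fst g p ≫ gA =
        (pullback.snd g p ≫ Spec.map (CommRingCat.ofHom j.toRingHom)) ≫ stageHom (op i) := by
      rw [← Category.assoc, pullback.condition, Category.assoc, Category.assoc]
      simp only [p, Category.assoc, Iso.inv_hom_id, Category.comp_id]
      rw [← Spec.map_comp]
      exact congrArg (fun z => pullback.snd g _ ≫ Spec.map z) (CommRingCat.hom_ext j.comp_algebraMap.symm)
    exact hi.comp G ξ (pullback.lift _ _ w) _ (pullback.lift_fst _ _ _)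

theorem kills_of_disjoint {X P : Scheme.{u}} (G : EtCoh.Ab X) {q : ℕ} (ξ : EtCoh.H X G q) {ι : Type*} [Fintype ι]
    (U : ι → P.Opens) (hcov : ∀ x : P, ∃ i, x ∈ U i)
    (hdisj : ∀ i j, i ≠ j → Disjoint (U i : Set P) (U j : Set P)) (f : P ⟶ X)
    (h : ∀ i, Kills G ξ ((U i).ι ≫ f)) : Kills G ξ f := by
  refine DivSeqLib.eq_zero_of_Hpull U hcov hdisj _ q _ fun i => ?_
  exact (EtAcycLib.bijective_mk₀_iso_postcomp (asIso ((etSys.c (U i).ι f _ rfl).app G)) q).1
    ((((CovDevLib.Hpull_comp (U i).ι f _ rfl G q ξ)).trans (h i)).trans (Ext.zero_comp _ _ _ _ _).symm)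

theorem isOpen_constructibleTopology {Y : Type*} [TopologicalSpace Y] [CompactSpace Y] {s : Set Y}
    (hs : Topology.IsConstructible s) :
    IsOpen[constructibleTopology Y] s ∧ IsOpen[constructibleTopology Y] sᶜ := by
  induction hs using Topology.IsConstructible.empty_union_induction with
  | open_retrocompact U hU hUc =>
    exact ⟨hUc.isCompact.isOpen_constructibleTopology_of_isOpen hU,
      IsCompact.isOpen_constructibleTopology_of_isClosed (by rw [compl_compl]; exact hUc.isCompact) hU.isClosed_compl⟩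
  | union s hs t ht h h' =>
    refine ⟨?_, ?_⟩
    · letI := constructibleTopology Y
      exact h.1.union h'.1
    · rw [Set.compl_union]
      letI := constructibleTopology Y
      exact h.2.inter h'.2
  | compl s hs h => exact ⟨h.2, by rw [compl_compl]; exact h.1⟩

/-- A class vanishing on all geometric fibres vanishes on a quasi-finite covering. -/
theorem exists_qf_cover {X Y : Scheme.{u}} [IsAffine Y] [CompactSpace X] [QuasiSeparatedSpace X] (g : X ⟶ Y)
    (G : EtCoh.Ab X) {q : ℕ} (ξ : EtCoh.H X G q)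
    (hξ : ∀ y : Y, ∃ (Ω : Type u) (_ : Field Ω) (_ : Algebra (Y.residueField y) Ω),
      Algebra.IsAlgebraic (Y.residueField y) Ω ∧ Kills G ξ (pullback.fst g (EtAcyc.geomPt Y y Ω))) :
    ∃ (Y' : Scheme.{u}) (p : Y' ⟶ Y), IsAffine Y' ∧ LocallyQuasiFinite p ∧ LocallyOfFinitePresentation p ∧
      Function.Surjective p.base ∧ Kills G ξ (pullback.fst g p) := by
  classical
  choose Ω hF hA hal hk using hξ
  have h1 : ∀ y : Y, ∃ (Z : Scheme.{u}) (p : Z ⟶ Y), IsAffine Z ∧ LocallyQuasiFinite p ∧
      LocallyOfFinitePresentation p ∧ y ∈ Set.range p.base ∧ Kills G ξ (pullback.fst g p) := fun y =>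
    @exists_qf_nhd X Y _ _ _ g G q ξ y (Ω y) (hF y) (hA y) (hal y) (hk y)
  choose Z p hZ hqf hfp hy hkp using h1
  haveI : ∀ y, IsAffine (Z y) := hZ
  haveI : ∀ y, QuasiCompact (p y) := fun y => inferInstance
  let O : Y → Set (WithConstructibleTopology Y) := fun y => WithTopology.ofTopology ⁻¹' Set.range (p y).base
  have hO : ∀ y, IsOpen (O y) := fun y => by
    rw [WithConstructibleTopology.isOpen_iff]
    haveI := hfp y
    have := (isOpen_constructibleTopology ((p y).isConstructible_image (Topology.IsConstructible.univ))).1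
    rw [Set.image_univ] at this
    exact this
  obtain ⟨t, ht⟩ := isCompact_univ.elim_finite_subcover O hO fun x _ =>
    Set.mem_iUnion.2 ⟨WithTopology.ofTopology x, hy _⟩
  let T := {y // y ∈ t}
  let Y' := ∐ fun i : T => Z i.1
  let P : Y' ⟶ Y := Sigma.desc fun i : T => p i.1
  haveI hqc : LocallyQuasiFinite P := IsZariskiLocalAtSource.sigmaDesc fun i => hqf i.1
  haveI hfc : LocallyOfFinitePresentation P := IsZariskiLocalAtSource.sigmaDesc fun i => hfp i.1
  refine ⟨Y', P, inferInstance, hqc, hfc, fun y => ?_, ?_⟩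
  · obtain ⟨i, hi, z, hz⟩ := Set.mem_iUnion₂.1 (ht (Set.mem_univ (WithTopology.toTopology _ y)))
    refine ⟨(Sigma.ι (fun i : T => Z i.1) ⟨i, hi⟩).base z, ?_⟩
    show ((Sigma.ι (fun i : T => Z i.1) ⟨i, hi⟩) ≫ P).base z = y
    rw [Sigma.ι_desc]
    exact hz
  · let U : T → (pullback g P).Opens := fun i =>
      pullback.snd g P ⁻¹ᵁ (Sigma.ι (fun i : T => Z i.1) i).opensRange
    refine kills_of_disjoint G ξ U (fun x => ?_) (fun i j hij => ?_) _ fun i => ?_
    · obtain ⟨i, z, hz⟩ := (sigmaOpenCover fun i : T => Z i.1).exists_eq ((pullback.snd g P).base x)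
      exact ⟨i, z, hz⟩
    · exact Disjoint.preimage _ (by
        rw [Set.disjoint_left]
        rintro x ⟨a, ha⟩ ⟨b, hb⟩
        exact hij (congrArg Sigma.fst ((sigmaι_eq_iff (fun i : T => Z i.1) i j a b).1 (ha.trans hb.symm))))
    · have hr : Set.range ((U i).ι ≫ pullback.snd g P).base ⊆ Set.range (Sigma.ι (fun i : T => Z i.1) i).base := by
        rintro _ ⟨x, rfl⟩
        exact x.2
      let l := IsOpenImmersion.lift (Sigma.ι (fun i : T => Z i.1) i) ((U i).ι ≫ pullback.snd g P) hr
      have w : ((U i).ι ≫ pullback.fst g P) ≫ g = l ≫ p i.1 := by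
        rw [← Sigma.ι_desc (fun i : T => p i.1) i]
        show _ = l ≫ _ ≫ P
        rw [IsOpenImmersion.lift_fac_assoc, Category.assoc, Category.assoc, pullback.condition]
      exact (hkp i.1).comp G ξ (pullback.lift _ _ w) _ (pullback.lift_fst _ _ _)

end EtAcycFibLib

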