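import Groth.Agent.EtAcycFibLib.Base
import Groth.Agent.LocAcycBCLib.Main
import Groth.Agent.QfHensFiniteLib.Main

/-!
# Local acyclicity is stable under locally quasi-finite base change
-/

set_option autoImplicit false
set_option linter.all false
set_option backward.isDefEq.respectTransparency false
set_option backward.isDefEq.respectTransparency.types false
set_option synthInstance.maxHeartbeats 400000
set_option maxHeartbeats 4000000

universe u

open CategoryTheory CategoryTheory.Limits AlgebraicGeometry Opposite TensorProduct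
open LocAcycBCLib

noncomputable section

namespace EtAcycFibLib

/-- A property of strict localisations stable under finite base change is stable under locally quasi-finite base
change. -/
theorem onStrictLocalizations_baseChange_lqf {X S S' : Scheme.{u}} (f : X ⟶ S) (g : S' ⟶ S) [LocallyQuasiFinite g]
    [LocallyOfFiniteType g] (P : ∀ ⦃X' Y' : Scheme.{u}⦄, (X' ⟶ Y') → Prop)
    (hP : ∀ {A B A' B' : Scheme.{u}} (h : A ⟶ B) (i : B' ⟶ B) (a : A' ⟶ A) (h' : A' ⟶ B') [IsFinite i] [IsAffine A]
      [IsAffine B], IsPullback a h' h i → P h → P h')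
    (hf : EtAcyc.OnStrictLocalizations f P) : EtAcyc.OnStrictLocalizations (pullback.snd f g) P := by
  intro z RS' RX' _ _ _ _ _ _ hS' _ _ hX' _ _ hcompat
  -- charts
  let s' := (pullback.snd f g).base z
  let x := (pullback.fst f g).base z
  have hfg : f.base x = g.base s' := by
    show (pullback.fst f g ≫ f).base z = (pullback.snd f g ≫ g).base z
    rw [pullback.condition]
  obtain ⟨U, hU, hsU, -⟩ := exists_isAffineOpen_mem_and_subset (x := g.base s') (U := ⊤) trivial
  obtain ⟨V, hV, hsV, eV⟩ := exists_isAffineOpen_mem_and_subset (x := s') (U := g ⁻¹ᵁ U) hsU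
  obtain ⟨W, hW, hxW, eW⟩ := exists_isAffineOpen_mem_and_subset (x := x) (U := f ⁻¹ᵁ U)
    (show f.base x ∈ U by rw [hfg]; exact eV hsV)
  let A := Γ(S, U)
  let B := Γ(S', V)
  let C := Γ(X, W)
  letI : Algebra A B := (g.appLE U V eV).hom.toAlgebra
  haveI : Algebra.FiniteType A B :=
    HasRingHomProperty.appLE @LocallyOfFiniteType g ‹_› ⟨U, hU⟩ ⟨V, hV⟩ eV
  haveI : Algebra.QuasiFinite A B :=
    HasRingHomProperty.appLE @LocallyQuasiFinite g ‹_› ⟨U, hU⟩ ⟨V, hV⟩ eV
  letI : Algebra A C := (f.appLE U W eW).hom.toAlgebra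
  have sqB : Spec.map (CommRingCat.ofHom (algebraMap A B)) ≫ hU.fromSpec = hV.fromSpec ≫ g :=
    hU.SpecMap_appLE_fromSpec g hV eV
  have sqC : Spec.map (CommRingCat.ofHom (algebraMap A C)) ≫ hU.fromSpec = hW.fromSpec ≫ f :=
    hU.SpecMap_appLE_fromSpec f hW eW
  obtain ⟨Φ, hΦi, hΦ1, hΦ2, qD, hqD⟩ : ∃ Φ : Spec (CommRingCat.of ((B : Type u) ⊗[(A : Type u)] (C : Type u))) ⟶ pullback f g,
      IsOpenImmersion Φ ∧
      (Φ ≫ pullback.fst f g = Spec.map (CommRingCat.ofHom
        (Algebra.TensorProduct.includeRight : C →ₐ[A] (B : Type u) ⊗[(A : Type u)] (C : Type u)).toRingHom) ≫ hW.fromSpec) ∧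
      (Φ ≫ pullback.snd f g = Spec.map (CommRingCat.ofHom
        (Algebra.TensorProduct.includeLeftRingHom : (B : Type u) →+* (B : Type u) ⊗[(A : Type u)] (C : Type u))) ≫ hV.fromSpec) ∧
      ∃ q : PrimeSpectrum ((B : Type u) ⊗[(A : Type u)] (C : Type u)), Φ q = z := by
    let I := (pullbackSpecIso A B C).symm ≪≫ pullbackSymmetry _ _
    have h1 : z ∈ Set.range (pullback.map _ _ f g hW.fromSpec hV.fromSpec hU.fromSpec sqC sqB) := by
      rw [Scheme.Pullback.range_map]
      exact ⟨by rw [hW.range_fromSpec]; exact hxW, by rw [hV.range_fromSpec]; exact hsV⟩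
    obtain ⟨w, hw⟩ := h1
    refine ⟨I.hom ≫ pullback.map _ _ f g hW.fromSpec hV.fromSpec hU.fromSpec sqC sqB, inferInstance, by simp [I],
      by simp [I], I.inv.base w, ?_⟩
    rw [← Scheme.Hom.comp_apply, Iso.inv_hom_id_assoc]
    exact hw
  haveI := hΦi
  let pD : Ideal ((B : Type u) ⊗[(A : Type u)] (C : Type u)) := qD.asIdeal
  let pB : Ideal B := pD.comap Algebra.TensorProduct.includeLeftRingHom
  let pC : Ideal C := pD.comap (Algebra.TensorProduct.includeRight : C →ₐ[A] (B : Type u) ⊗[(A : Type u)] (C : Type u)).toRingHom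
  let pA : Ideal A := pB.comap (algebraMap A B)
  haveI : pD.IsPrime := qD.isPrime
  haveI : pB.IsPrime := Ideal.IsPrime.comap _
  haveI : pC.IsPrime := Ideal.IsPrime.comap _
  haveI : pA.IsPrime := Ideal.IsPrime.comap _
  haveI : pB.LiesOver pA := ⟨rfl⟩
  haveI : pD.LiesOver pB := ⟨rfl⟩
  have hpC : pC.comap (algebraMap A C) = pA := by
    show (pD.comap _).comap _ = (pD.comap _).comap _
    rw [Ideal.comap_comap, Ideal.comap_comap]
    congr 1
    ext a
    show (1 : B) ⊗ₜ[(A : Type u)] algebraMap A C a = algebraMap A B a ⊗ₜ[(A : Type u)] (1 : C)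
    rw [Algebra.algebraMap_eq_smul_one, Algebra.algebraMap_eq_smul_one, smul_tmul]
  haveI : pC.LiesOver pA := ⟨hpC.symm⟩
  have hqB : hV.fromSpec (⟨pB, inferInstance⟩ : PrimeSpectrum B) = s' :=
    (congrArg (fun m => m.base qD) hΦ2).symm.trans (congrArg (pullback.snd f g).base hqD)
  have hqC : hW.fromSpec (⟨pC, inferInstance⟩ : PrimeSpectrum C) = x :=
    (congrArg (fun m => m.base qD) hΦ1).symm.trans (congrArg (pullback.fst f g).base hqD)
  have hqA : hU.fromSpec (⟨pA, inferInstance⟩ : PrimeSpectrum A) = f.base x := by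
    rw [hfg, ← hqB]
    exact congrArg (fun m => m.base (⟨pB, inferInstance⟩ : PrimeSpectrum B)) sqB
  obtain ⟨eA, heA⟩ := exists_chart hU.fromSpec pA (f.base x) hqA
  obtain ⟨eB, heB⟩ := exists_chart hV.fromSpec pB s' hqB
  obtain ⟨eC, heC⟩ := exists_chart hW.fromSpec pC x hqC
  obtain ⟨eD, heD⟩ := exists_chart Φ pD z hqD
  -- the given strict henselizations, over the rings of the charts
  obtain ⟨aB, _, hshB, hB'⟩ := exists_sh_of_equiv eB.symm RS'
  obtain ⟨aD, _, hshD, hD'⟩ := exists_sh_of_equiv eD.symm RX'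
  letI := aB
  letI := aD
  letI : Algebra B RS' := ((algebraMap (Localization.AtPrime pB) RS').comp (algebraMap B (Localization.AtPrime pB))).toAlgebra
  haveI : IsScalarTower B (Localization.AtPrime pB) RS' := IsScalarTower.of_algebraMap_eq fun _ => rfl
  letI : Algebra ((B : Type u) ⊗[(A : Type u)] (C : Type u)) RX' := ((algebraMap (Localization.AtPrime pD) RX').comp
    (algebraMap _ (Localization.AtPrime pD))).toAlgebra
  haveI : IsScalarTower ((B : Type u) ⊗[(A : Type u)] (C : Type u)) (Localization.AtPrime pD) RX' :=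
    IsScalarTower.of_algebraMap_eq fun _ => rfl
  have spB : Spec.map (CommRingCat.ofHom (algebraMap B RS')) ≫ hV.fromSpec =
      Spec.map (CommRingCat.ofHom (algebraMap (S'.presheaf.stalk s') RS')) ≫ S'.fromSpecStalk s' := by
    have e1 : algebraMap (S'.presheaf.stalk s') RS' = (algebraMap (Localization.AtPrime pB) RS').comp eB.toRingHom := by
      rw [hB', RingHom.comp_assoc, show eB.symm.toRingHom.comp eB.toRingHom = RingHom.id _ from RingHom.ext eB.symm_apply_apply, RingHom.comp_id]
    rw [e1, CommRingCat.ofHom_comp, Spec.map_comp, Category.assoc, heB, ← Category.assoc, ← Spec.map_comp,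
      ← CommRingCat.ofHom_comp]
    rfl
  have spD : Spec.map (CommRingCat.ofHom (algebraMap ((B : Type u) ⊗[(A : Type u)] (C : Type u)) RX')) ≫ Φ =
      Spec.map (CommRingCat.ofHom (algebraMap ((pullback f g).presheaf.stalk z) RX')) ≫
        (pullback f g).fromSpecStalk z := by
    have e1 : algebraMap ((pullback f g).presheaf.stalk z) RX' =
        (algebraMap (Localization.AtPrime pD) RX').comp eD.toRingHom := by
      rw [hD', RingHom.comp_assoc, show eD.symm.toRingHom.comp eD.toRingHom = RingHom.id _ from RingHom.ext eD.symm_apply_apply, RingHom.comp_id]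
    rw [e1, CommRingCat.ofHom_comp, Spec.map_comp, Category.assoc, heD, ← Category.assoc, ← Spec.map_comp,
      ← CommRingCat.ofHom_comp]
    rfl
  have hψB : (algebraMap RS' RX').comp (algebraMap B RS') =
      (algebraMap ((B : Type u) ⊗[(A : Type u)] (C : Type u)) RX').comp Algebra.TensorProduct.includeLeftRingHom := by
    refine eq_of_spec hV.fromSpec _ _ ?_
    rw [CommRingCat.ofHom_comp, CommRingCat.ofHom_comp, Spec.map_comp, Spec.map_comp, Category.assoc, Category.assoc,
      ← hΦ2, reassoc_of% spD, spB, ← Scheme.SpecMap_stalkMap_fromSpecStalk, ← Category.assoc, ← Category.assoc,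
      ← Spec.map_comp, ← Spec.map_comp, ← CommRingCat.ofHom_comp]
    refine congrArg (fun m => Spec.map m ≫ S'.fromSpecStalk s') ?_
    rw [hcompat]
    rfl
  -- strict henselizations below
  obtain ⟨RS, _, _, aS, _, hshS⟩ := Groth.Agent.S0537.result (Localization.AtPrime pA)
  obtain ⟨RX, _, _, aX, _, hshX⟩ := Groth.Agent.S0537.result (Localization.AtPrime pC)
  haveI := hS'.henselian
  haveI := hS'.isSepClosure.sep_closed
  haveI := hX'.henselian
  haveI := hX'.isSepClosure.sep_closed
  haveI : HenselianLocalRing RS := hshS.henselian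
  let φB : Localization.AtPrime pA →+* Localization.AtPrime pB := Localization.localRingHom pA pB (algebraMap A B) rfl
  let φC : Localization.AtPrime pA →+* Localization.AtPrime pC := Localization.localRingHom pA pC (algebraMap A C) hpC.symm
  let φD : Localization.AtPrime pC →+* Localization.AtPrime pD := Localization.localRingHom pC pD
    (Algebra.TensorProduct.includeRight : C →ₐ[A] (B : Type u) ⊗[(A : Type u)] (C : Type u)).toRingHom rfl
  obtain ⟨α, hαl, hα⟩ := exists_lift (O := Localization.AtPrime pA) (R := RS)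
    ((algebraMap (Localization.AtPrime pB) RS').comp φB)
  obtain ⟨γ, hγl, hγ⟩ := exists_lift (O := Localization.AtPrime pC) (R := RX)
    ((algebraMap (Localization.AtPrime pD) RX').comp φD)
  obtain ⟨ω, hωl, hω, hγω⟩ := exists_factor (O := Localization.AtPrime pA) (R := RS) φC
    ((algebraMap RS' RX').comp α) γ (by
      rw [RingHom.comp_assoc, hα, hγ]
      refine IsLocalization.ringHom_ext pA.primeCompl (RingHom.ext fun a => ?_)
      simp only [RingHom.comp_apply, φB, φC, φD, Localization.localRingHom_to_map]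
      show algebraMap RS' RX' (algebraMap B RS' (algebraMap A B a)) =
        algebraMap ((B : Type u) ⊗[(A : Type u)] (C : Type u)) RX' ((1 : B) ⊗ₜ[(A : Type u)] algebraMap A C a)
      refine (RingHom.congr_fun hψB (algebraMap A B a)).trans (congrArg (algebraMap ((B : Type u) ⊗[(A : Type u)] (C : Type u)) RX') ?_)
      show algebraMap A B a ⊗ₜ[(A : Type u)] (1 : C) = _
      rw [Algebra.algebraMap_eq_smul_one, Algebra.algebraMap_eq_smul_one, smul_tmul])
  letI : Algebra RS RS' := α.toAlgebra
  letI : Algebra RS RX := ω.toAlgebra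
  letI : Algebra RX RX' := γ.toAlgebra
  letI : Algebra RS RX' := ((algebraMap RS' RX').comp α).toAlgebra
  haveI : IsScalarTower RS RS' RX' := IsScalarTower.of_algebraMap_eq fun _ => rfl
  haveI : IsScalarTower RS RX RX' := IsScalarTower.of_algebraMap_eq' hγω.symm
  haveI : IsLocalHom (algebraMap RS RS') := hαl
  haveI : IsLocalHom (algebraMap RS RX) := hωl
  haveI : IsLocalHom (algebraMap RX RX') := hγl
  letI : Algebra A RS := ((algebraMap (Localization.AtPrime pA) RS).comp (algebraMap A (Localization.AtPrime pA))).toAlgebra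
  haveI : IsScalarTower A (Localization.AtPrime pA) RS := IsScalarTower.of_algebraMap_eq fun _ => rfl
  letI : Algebra A RS' := ((algebraMap B RS').comp (algebraMap A B)).toAlgebra
  haveI : IsScalarTower A B RS' := IsScalarTower.of_algebraMap_eq fun _ => rfl
  haveI : IsScalarTower A RS RS' := IsScalarTower.of_algebraMap_eq fun a => by
    show algebraMap B RS' (algebraMap A B a) = α (algebraMap (Localization.AtPrime pA) RS (algebraMap A _ a))
    rw [← RingHom.comp_apply α, hα, RingHom.comp_apply]
    simp only [φB, Localization.localRingHom_to_map]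
    rfl
  letI : Algebra C RX := ((algebraMap (Localization.AtPrime pC) RX).comp (algebraMap C (Localization.AtPrime pC))).toAlgebra
  haveI : IsScalarTower C (Localization.AtPrime pC) RX := IsScalarTower.of_algebraMap_eq fun _ => rfl
  letI : Algebra A RX := ((algebraMap C RX).comp (algebraMap A C)).toAlgebra
  haveI : IsScalarTower A C RX := IsScalarTower.of_algebraMap_eq fun _ => rfl
  haveI : IsScalarTower A RS RX := IsScalarTower.of_algebraMap_eq fun a => by
    show algebraMap C RX (algebraMap A C a) = ω (algebraMap (Localization.AtPrime pA) RS (algebraMap A _ a))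
    rw [← RingHom.comp_apply ω, hω, RingHom.comp_apply]
    simp only [φC, Localization.localRingHom_to_map]
    rfl
  letI : Algebra B RX' := ((algebraMap RS' RX').comp (algebraMap B RS')).toAlgebra
  haveI : IsScalarTower B RS' RX' := IsScalarTower.of_algebraMap_eq fun _ => rfl
  haveI : IsScalarTower B ((B : Type u) ⊗[(A : Type u)] (C : Type u)) RX' := IsScalarTower.of_algebraMap_eq' hψB
  have hC' : ∀ c : C, algebraMap RX RX' (algebraMap C RX c) =
      algebraMap ((B : Type u) ⊗[(A : Type u)] (C : Type u)) RX' ((1 : B) ⊗ₜ[(A : Type u)] c) := fun c => by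
    show γ (algebraMap (Localization.AtPrime pC) RX (algebraMap C _ c)) = _
    rw [← RingHom.comp_apply γ, hγ, RingHom.comp_apply]
    simp only [φD, Localization.localRingHom_to_map]
    rfl
  obtain ⟨_, -, _⟩ := QfHensFiniteLib.finite_strictHenselization (R := (A : Type u)) (S := (B : Type u)) (p := pA) (q := pB)
    (Rh := RS) (Sh := RS')
  have hbij := StrictHensBCLib.bijective_lift (A : Type u) (B : Type u) (C : Type u) pB pC pD RS RS' RX RX' hC'
  -- local acyclicity at the point below
  obtain ⟨aS2, _, hshS2, hS2⟩ := exists_sh_of_equiv eA RS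
  obtain ⟨aX2, _, hshX2, hX2⟩ := exists_sh_of_equiv eC RX
  have hc : (algebraMap RS RX).comp (@algebraMap (S.presheaf.stalk (f.base x)) RS _ _ aS2) =
      (@algebraMap (X.presheaf.stalk x) RX _ _ aX2).comp (f.stalkMap x).hom := by
    refine eq_of_spec (S.fromSpecStalk (f.base x)) _ _ ?_
    rw [CommRingCat.ofHom_comp, CommRingCat.ofHom_comp, Spec.map_comp, Spec.map_comp, Category.assoc, Category.assoc,
      CommRingCat.ofHom_hom, Scheme.SpecMap_stalkMap_fromSpecStalk, hS2, hX2, CommRingCat.ofHom_comp, CommRingCat.ofHom_comp,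
      Spec.map_comp, Spec.map_comp, Category.assoc, Category.assoc, heA, reassoc_of% heC, ← sqC]
    simp only [← Category.assoc, ← Spec.map_comp, ← CommRingCat.ofHom_comp]
    refine congrArg (fun m => Spec.map (CommRingCat.ofHom m) ≫ hU.fromSpec) (RingHom.ext fun a => ?_)
    show algebraMap RS RX (algebraMap A RS a) = algebraMap C RX (algebraMap A C a)
    rw [← IsScalarTower.algebraMap_apply A RS RX, ← IsScalarTower.algebraMap_apply A C RX]
  letI := aS2
  letI := aX2
  have h1 : P (Spec.map (CommRingCat.ofHom (algebraMap RS RX))) := hf x RS RX hc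
  let e : RS' ⊗[RS] RX ≃+* RX' :=
    (AlgEquiv.ofBijective _ hbij : RS' ⊗[RS] RX ≃ₐ[RS] RX').toRingEquiv
  let eS : Spec (CommRingCat.of RX') ≅ Spec (CommRingCat.of (RS' ⊗[RS] RX)) :=
    Scheme.Spec.mapIso e.toCommRingCatIso.op
  have sq0 := (isPullback_SpecMap_of_isPushout _ _ _ _
    (CommRingCat.isPushout_tensorProduct (↑RS) (↑RS') (↑RX))).flip
  have sq : IsPullback (Spec.map (CommRingCat.ofHom (algebraMap RX RX')))
      (Spec.map (CommRingCat.ofHom (algebraMap RS' RX'))) (Spec.map (CommRingCat.ofHom (algebraMap RS RX)))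
      (Spec.map (CommRingCat.ofHom (algebraMap RS RS'))) := by
    refine sq0.of_iso eS.symm (Iso.refl _) (Iso.refl _) (Iso.refl _) ?_ ?_ (by simp) (by simp)
    · rw [Iso.refl_hom, Category.comp_id, Iso.symm_hom, Iso.eq_inv_comp]
      show Spec.map _ ≫ _ = _
      rw [← Spec.map_comp]
      refine congrArg Spec.map (CommRingCat.hom_ext (RingHom.ext fun c => ?_))
      show e ((1 : RS') ⊗ₜ[RS] c) = algebraMap RX RX' c
      simp [e]
    · rw [Iso.refl_hom, Category.comp_id, Iso.symm_hom, Iso.eq_inv_comp]
      show Spec.map _ ≫ _ = _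
      rw [← Spec.map_comp]
      refine congrArg Spec.map (CommRingCat.hom_ext (RingHom.ext fun c => ?_))
      show e (c ⊗ₜ[RS] (1 : RX)) = algebraMap RS' RX' c
      simp [e]
  haveI : IsFinite (Spec.map (CommRingCat.ofHom (algebraMap RS RS'))) :=
    (IsFinite.SpecMap_iff (CommRingCat.ofHom (algebraMap RS RS'))).2 (RingHom.finite_algebraMap.2 inferInstance)
  exact hP _ _ _ _ sq h1

/-- Local acyclicity is stable under locally quasi-finite base change. -/
theorem isLocAcyclicN_baseChange_lqf {X S S' : Scheme.{u}} (f : X ⟶ S) (g : S' ⟶ S) [LocallyQuasiFinite g]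
    [LocallyOfFiniteType g] {L : Set ℕ} {n : ℕ} (hL : ∃ ℓ ∈ L, ℓ.Prime) (hf : EtAcyc.IsLocAcyclicN f L n) :
    EtAcyc.IsLocAcyclicN (pullback.snd f g) L n :=
  onStrictLocalizations_baseChange_lqf f g _ (fun h i a h' _ _ _ sq hh => isAcyclicN_baseChange_lqf hL hh i sq) hf

end EtAcycFibLib
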