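import Groth.Agent.EtAcycFibLib.Range
import Groth.Agent.EtAcycFibLib.Strict
import Groth.Agent.EtAcycFibLib.Bc
import Groth.Agent.EtSliceLib.MV
import Groth.Agent.S8551

/-!
# The range of pullback is cut out by the geometric fibres
-/

set_option autoImplicit false
set_option linter.all false
set_option backward.isDefEq.respectTransparency false
set_option backward.isDefEq.respectTransparency.types false
set_option synthInstance.maxHeartbeats 400000
set_option maxHeartbeats 2000000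

universe u

open CategoryTheory CategoryTheory.Limits CategoryTheory.Abelian AlgebraicGeometry Opposite DescSecLib
open Groth.Agent Groth.Agent.EtShLib EtSliceLib EtAcycLib CovDevLib

noncomputable section

namespace EtAcycFibLib

attribute [local instance] EtSliceLib.pullExact

/-- Positive degree cohomology of a separably closed point vanishes. -/
theorem eq_zero_of_point {Ω : Type u} [Field Ω] [IsSepClosed Ω] (F : EtCoh.Ab (Spec (CommRingCat.of Ω))) (k : ℕ)
    (x : EtCoh.H (Spec (CommRingCat.of Ω)) F (k + 1)) : x = 0 := by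
  let T := EtCoh.top (Spec (CommRingCat.of Ω))
  obtain ⟨W', φ, ⟨v, hv⟩, hφ⟩ := EtAcycLib.exists_kill k F T ((Ext.mk₀ (toConst T)).comp x (zero_add (k + 1))) (default : Spec (CommRingCat.of Ω))
  obtain ⟨u, -⟩ := exists_fib (𝟙 (Spec (CommRingCat.of Ω))) W' v
    (@Subsingleton.elim (Spec (CommRingCat.of Ω)) _ _ _)
  let s : T ⟶ W' := MorphismProperty.Over.homMk u.hom (u.w)
  have hs : s ≫ φ = 𝟙 T := (EtCore.topIsTerminal _).hom_ext _ _
  have h0 : (Ext.mk₀ (toConst T)).comp x (zero_add (k + 1)) = 0 := by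
    have h1 : freeMap s ≫ freeMap φ = 𝟙 (free T) := by
      rw [freeMap_comp, hs]
      refine free_hom_ext _ ?_
      rw [freeMap_gen, op_id, CategoryTheory.Functor.map_id, ConcreteCategory.id_apply]
      rfl
    have h2 := congrArg (fun z => (Ext.mk₀ (freeMap s)).comp z (zero_add (k + 1))) hφ
    simp only [Ext.mk₀_comp_mk₀_assoc] at h2
    rw [← Category.assoc, h1, Category.id_comp, Ext.comp_zero] at h2
    exact h2
  haveI : IsIso T.hom := inferInstanceAs (IsIso (𝟙 _))
  refine (CovDevLib.bijective_Hpull_iso T.hom F (k + 1)).1 ?_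
  rw [Hpull_eq_psi, h0, map_zero, map_zero]

variable {X Y : Scheme.{u}} (g : X ⟶ Y)

/-- A class in the range of pullback vanishes on the geometric fibres. -/
theorem kills_of_mem_range {F : EtCoh.Ab Y} {k : ℕ} {ξ : EtCoh.H X ((EtCoh.pull g).obj F) (k + 1)}
    (hξ : ξ ∈ Set.range (EtCore.Hpull g F (k + 1))) {Ω : Type u} [Field Ω] [IsSepClosed Ω]
    (t : Spec (CommRingCat.of Ω) ⟶ Y) : Kills ((EtCoh.pull g).obj F) ξ (pullback.fst g t) := by
  obtain ⟨x, rfl⟩ := hξ
  have h1 := CovDevLib.Hpull_comp (pullback.fst g t) g _ rfl F (k + 1) x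
  have h2 := CovDevLib.Hpull_comp (pullback.snd g t) t (pullback.fst g t ≫ g) pullback.condition.symm F (k + 1) x
  rw [eq_zero_of_point _ k (EtCore.Hpull t F (k + 1) x), map_zero, Ext.zero_comp] at h2
  exact (bijective_mk₀_iso_postcomp (asIso ((etSys.c (pullback.fst g t) g _ rfl).app F)) (k + 1)).1
    ((h1.trans h2.symm).trans (Ext.zero_comp _ _ _ _ _).symm)

/-- The affine case. -/
theorem mem_range_of_kills_affine [IsAffine Y] [QuasiCompact g] [QuasiSeparated g] {L : Set ℕ}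
    (hL : ∃ ℓ ∈ L, ℓ.Prime) {k : ℕ} (hg : EtAcyc.IsAcyclicN g L k) (hloc : EtAcyc.IsLocAcyclicN g L k)
    {F : EtCoh.Ab Y} (hF : EtAcyc.IsLTorsion L F) (ξ : EtCoh.H X ((EtCoh.pull g).obj F) (k + 1))
    (hξ : ∀ y : Y, ∃ (Ω : Type u) (_ : Field Ω) (_ : Algebra (Y.residueField y) Ω),
      Algebra.IsAlgebraic (Y.residueField y) Ω ∧
        Kills ((EtCoh.pull g).obj F) ξ (pullback.fst g (EtAcyc.geomPt Y y Ω))) :
    ξ ∈ Set.range (EtCore.Hpull g F (k + 1)) := by
  haveI : CompactSpace X := QuasiCompact.compactSpace_of_compactSpace g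
  haveI : QuasiSeparatedSpace X := quasiSeparatedSpace_of_quasiSeparated g
  obtain ⟨Y', p, hY', hp1, hp2, hps, hk⟩ := exists_qf_cover g _ ξ hξ
  haveI := hY'
  haveI := hp1
  haveI := hp2
  haveI : CompactSpace Y' := inferInstance
  haveI : QuasiSeparatedSpace Y' := inferInstance
  have sq := (IsPullback.of_hasPullback g p).flip
  refine (Groth.Agent.S8551.result g p (pullback.snd g p) (pullback.fst g p) sq hps L k
    (compN_of_acyclicN hg) (fun Fb hFb => bcQ_of_isLocAcyclicN g p (pullback.fst g p) (pullback.snd g p) sq hL hloc hFb)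
    F hF ξ).2 ⟨0, ?_⟩
  rw [map_zero]
  have hk' : EtCore.Hpull (pullback.fst g p) ((EtCoh.pull g).obj F) (k + 1) ξ = 0 := hk
  show 0 = ((EtCoh.HF _ (k + 1)).map _).hom (EtCore.Hpull (pullback.fst g p) ((EtCoh.pull g).obj F) (k + 1) ξ)
  rw [hk', map_zero]

theorem exists_geomPt_eq (U : Y.Opens) (w : U.toScheme) :
    ∃ (Ω : Type u) (_ : Field Ω) (_ : IsSepClosed Ω) (_ : Algebra (Y.residueField (U.ι.base w)) Ω)
      (_ : Algebra (U.toScheme.residueField w) Ω),
      Algebra.IsAlgebraic (Y.residueField (U.ι.base w)) Ω ∧ Algebra.IsAlgebraic (U.toScheme.residueField w) Ω ∧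
        EtAcyc.geomPt U.toScheme w Ω ≫ U.ι = EtAcyc.geomPt Y (U.ι.base w) Ω := by
  let K := Y.residueField (U.ι.base w)
  let r : K →+* U.toScheme.residueField w := (U.ι.residueFieldMap w).hom
  let s : U.toScheme.residueField w →+* K := (inv (U.ι.residueFieldMap w)).hom
  letI : Algebra K (U.toScheme.residueField w) := r.toAlgebra
  letI : Algebra (U.toScheme.residueField w) (AlgebraicClosure K) := ((algebraMap K (AlgebraicClosure K)).comp s).toAlgebra
  haveI : IsScalarTower K (U.toScheme.residueField w) (AlgebraicClosure K) := IsScalarTower.of_algebraMap_eq fun a => by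
    show algebraMap K (AlgebraicClosure K) a = algebraMap K _ ((U.ι.residueFieldMap w ≫ inv (U.ι.residueFieldMap w)).hom a)
    rw [IsIso.hom_inv_id]
    rfl
  refine ⟨AlgebraicClosure K, inferInstance, inferInstance, inferInstance, inferInstance, inferInstance,
    Algebra.IsAlgebraic.tower_top (K := K) (U.toScheme.residueField w), ?_⟩
  show (Spec.map _ ≫ U.toScheme.fromSpecResidueField w) ≫ U.ι = Spec.map _ ≫ Y.fromSpecResidueField _
  rw [Category.assoc, ← U.ι.SpecMap_residueFieldMap_fromSpecResidueField w, ← Spec.map_comp_assoc]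
  congr 2
  exact CommRingCat.hom_ext (IsScalarTower.algebraMap_eq K (U.toScheme.residueField w) (AlgebraicClosure K)).symm

/-- A class vanishing on all geometric fibres is in the range of pullback. -/
theorem mem_range_of_kills [QuasiCompact g] [QuasiSeparated g] {L : Set ℕ} (hL : ∃ ℓ ∈ L, ℓ.Prime) {k : ℕ}
    (hg : EtAcyc.IsAcyclicN g L k) (hloc : EtAcyc.IsLocAcyclicN g L k)
    {F : EtCoh.Ab Y} (hF : EtAcyc.IsLTorsion L F) (ξ : EtCoh.H X ((EtCoh.pull g).obj F) (k + 1))
    (hξ : ∀ (y : Y) (Ω : Type u) [Field Ω] [IsSepClosed Ω] [Algebra (Y.residueField y) Ω]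
      [Algebra.IsAlgebraic (Y.residueField y) Ω],
      Kills ((EtCoh.pull g).obj F) ξ (pullback.fst g (EtAcyc.geomPt Y y Ω))) :
    ξ ∈ Set.range (EtCore.Hpull g F (k + 1)) := by
  refine mem_range_Hpull_of_locally_zero g hg hF ξ fun y => ?_
  obtain ⟨A, hA, hyA, -⟩ := exists_isAffineOpen_mem_and_subset (X := Y) (x := y) (U := ⊤) trivial
  haveI : IsAffine A.toScheme := hA
  let W : Y.Etale := Scheme.Etale.mk A.ι
  let G := (EtCoh.pull g).obj F
  let gW : pullback g A.ι ⟶ A.toScheme := pullback.snd g A.ι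
  let a : pullback g A.ι ⟶ X := pullback.fst g A.ι
  let FW := (EtCoh.pull A.ι).obj F
  have sqW : IsPullback a gW g A.ι := IsPullback.of_hasPullback g A.ι
  haveI : QuasiCompact gW := MorphismProperty.of_isPullback sqW ‹QuasiCompact g›
  haveI : QuasiSeparated gW := MorphismProperty.of_isPullback sqW ‹QuasiSeparated g›
  haveI : LocallyQuasiFinite A.ι := locallyQuasiFinite_of_etale A.ι
  let j : (EtCoh.pull a).obj G ≅ (EtCoh.pull gW).obj FW :=
    asIso ((etSys.c a g (a ≫ g) rfl).app F) ≪≫ (asIso ((etSys.c gW A.ι (a ≫ g) sqW.w.symm).app F)).symm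
  let ξ' := EtCore.Hpull a G (k + 1) ξ
  let ξW : EtCoh.H (pullback g A.ι) ((EtCoh.pull gW).obj FW) (k + 1) := Ext.comp ξ' (Ext.mk₀ j.hom) (add_zero (k + 1))
  have hgW : EtAcyc.IsAcyclicN gW L k := isAcyclicN_baseChange_lqf hL hg A.ι sqW
  have hlW : EtAcyc.IsLocAcyclicN gW L k := isLocAcyclicN_baseChange_lqf g A.ι hL hloc
  have hW : ξW ∈ Set.range (EtCore.Hpull gW FW (k + 1)) := by
    refine mem_range_of_kills_affine gW hL hgW hlW (EtAcycLib.isLTorsion_pull_any A.ι hF) ξW fun w => ?_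
    obtain ⟨Ω, _, _, _, _, hal, hal', e⟩ := exists_geomPt_eq A w
    refine ⟨Ω, inferInstance, inferInstance, hal', ?_⟩
    let b := pullback.fst gW (EtAcyc.geomPt A.toScheme w Ω)
    have hb : Kills G ξ (b ≫ a) := by
      refine (@hξ (A.ι.base w) Ω _ _ _ hal).comp G ξ (pullback.lift (b ≫ a) (pullback.snd gW _) ?_) _
        (pullback.lift_fst _ _ _)
      rw [Category.assoc, sqW.w, pullback.condition_assoc, e]
    have h1 : EtCore.Hpull b ((EtCoh.pull a).obj G) (k + 1) ξ' = 0 :=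
      (bijective_mk₀_iso_postcomp (asIso ((etSys.c b a _ rfl).app G)) (k + 1)).1
        (((CovDevLib.Hpull_comp b a _ rfl G (k + 1) ξ).trans hb).trans (Ext.zero_comp _ _ _ _ _).symm)
    show EtCore.Hpull b _ (k + 1) (Ext.comp ξ' (Ext.mk₀ j.hom) (add_zero (k + 1))) = 0
    rw [Hpull_postcomp b j.hom (k + 1) ξ', h1, Ext.zero_comp]
  obtain ⟨x, hx⟩ := hW
  obtain ⟨ε, rfl⟩ := (psi_bijective W (k + 1) F).2 x
  obtain ⟨W', φ, ⟨v, hv⟩, hφ⟩ := EtAcycLib.exists_kill k F W ε (⟨y, hyA⟩ : A.toScheme)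
  refine ⟨W', ⟨v, ?_⟩, ?_⟩
  · rw [← MorphismProperty.Over.w φ]
    show W.hom.base (φ.left.base v) = y
    rw [show φ.left.base v = (⟨y, hyA⟩ : A.toScheme) from hv]
    rfl
  let xW := psi W F (k + 1) ε
  have h1 : EtCore.Hpull φ.left FW (k + 1) xW = 0 := by
    haveI : PreservesFiniteLimits (EtCoh.pull (ovMap φ).left) := EtSliceLib.pullExact φ.left
    haveI := EtAcycLib.isIso_theta F (ovMap φ)
    refine (bijective_mk₀_iso_postcomp (asIso (etSys.θ F (ovMap φ))) (k + 1)).1 ?_
    refine ((EtAcycLib.hmap_eq_Hpull F (k + 1) (ovMap φ) xW).symm.trans ?_).trans (Ext.zero_comp _ _ _ _ _).symm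
    refine (Hmap_psi F φ ε).trans ?_
    rw [hφ, map_zero]
  let ψ : (bX g W').left ⟶ pullback g A.ι := ((EtCoh.bc g).map φ).left ≫ (pullbackSymmetry A.ι g).hom
  have hψa : ψ ≫ a = (bX g W').hom := by
    refine (Category.assoc _ _ _).trans ((congrArg _ (pullbackSymmetry_hom_comp_fst A.ι g)).trans ?_)
    exact MorphismProperty.Over.w ((EtCoh.bc g).map φ)
  let f' : (bX g W').left ⟶ W'.left := pullback.fst W'.hom g
  have hψf : ψ ≫ gW = f' ≫ φ.left := by
    refine (Category.assoc _ _ _).trans ((congrArg _ (pullbackSymmetry_hom_comp_snd A.ι g)).trans ?_)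
    exact (EtCoh.isPullback_bc_map g φ).w
  show Kills G ξ (bX g W').hom
  have h2 : EtCore.Hpull ψ ((EtCoh.pull gW).obj FW) (k + 1) ξW = 0 := by
    rw [← hx]
    refine (bijective_mk₀_iso_postcomp (asIso ((etSys.c ψ gW _ rfl).app FW)) (k + 1)).1 ?_
    refine ((CovDevLib.Hpull_comp ψ gW _ rfl FW (k + 1) xW).trans ?_).trans (Ext.zero_comp _ _ _ _ _).symm
    refine (CovDevLib.Hpull_comp f' φ.left (ψ ≫ gW) hψf.symm FW (k + 1) xW).symm.trans ?_
    rw [h1, map_zero, Ext.zero_comp]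
  have h3 : EtCore.Hpull ψ ((EtCoh.pull a).obj G) (k + 1) ξ' = 0 := by
    rw [show EtCore.Hpull ψ _ (k + 1) ξW = _ from Hpull_postcomp ψ j.hom (k + 1) ξ'] at h2
    exact (bijective_mk₀_iso_postcomp ((EtCoh.pull ψ).mapIso j) (k + 1)).1 (h2.trans (Ext.zero_comp _ _ _ _ _).symm)
  show EtCore.Hpull (bX g W').hom G (k + 1) ξ = 0
  exact (CovDevLib.Hpull_comp ψ a _ hψa G (k + 1) ξ).symm.trans
    ((congrArg (fun z => Ext.comp z _ (add_zero (k + 1))) h3).trans (Ext.zero_comp _ _ _ _ _))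

end EtAcycFibLib
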