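import Groth.Agent.EtAcycFibLib.Cover
import Groth.Agent.EtAcycLib.Crit
import Groth.Agent.EtAcycLib.Comp

/-!
# Locally trivial classes are in the range of pullback
-/

set_option autoImplicit false
set_option linter.all false
set_option backward.isDefEq.respectTransparency false
set_option backward.isDefEq.respectTransparency.types false
set_option synthInstance.maxHeartbeats 400000
set_option maxHeartbeats 2000000

universe w v v' u'' u' u

open CategoryTheory CategoryTheory.Limits CategoryTheory.Abelian AlgebraicGeometry Opposite DescSecLib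
open Groth.Agent Groth.Agent.EtShLib Groth.Agent.S14451 EtSliceLib EtAcycLib

noncomputable section

namespace EtAcycFibLib

section Generic

variable {C : Type u'} [Category.{v} C] [Abelian C] [HasExt.{w} C]
  {D : Type u''} [Category.{v'} D] [Abelian D] [HasExt.{w} D] [EnoughInjectives D]
  {F : C ⥤ D} {G : D ⥤ C} (adj : F ⊣ G) [F.Additive] [G.Additive]
  [PreservesFiniteLimits F] [PreservesFiniteColimits F] [PreservesFiniteLimits G]

/-- A locally trivial class is in the range, when the higher direct images vanish below its degree. -/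
theorem mem_range_of_locally_zero [HasInjectiveResolutions D] (X : C) {ι : Type*} (P : ι → C) (a : ∀ i, P i ⟶ X)
    (ha : ∀ (Z : C) (u : X ⟶ Z), (∀ i, a i ≫ u = 0) → u = 0) :
    ∀ (k : ℕ) (Y : D), (∀ q, q + 1 ≤ k → IsZero ((G.rightDerived (q + 1)).obj Y)) →
      ∀ η : Ext.{w} (F.obj X) Y (k + 1), (∀ i, (Ext.mk₀ (F.map (a i))).comp η (zero_add (k + 1)) = 0) →
        η ∈ Set.range (extAdj'.{w} adj X Y (k + 1)) := by
  intro k
  induction k with
  | zero =>
    intro Y _ η hη
    let ip := (EnoughInjectives.presentation Y).some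
    let S := ShortComplex.mk ip.f (cokernel.π ip.f) (cokernel.condition _)
    have hS : S.ShortExact := { exact := ShortComplex.exact_of_g_is_cokernel _ (cokernelIsCokernel _) }
    haveI : Injective S.X₂ := ip.injective
    haveI : F.PreservesMonomorphisms := inferInstance
    let S₁ := ShortComplex.mk (G.map S.f) (cokernel.π (G.map S.f)) (cokernel.condition _)
    haveI : Mono (G.map S.f) := G.map_mono _
    have h₁ : S₁.ShortExact := { exact := ShortComplex.exact_of_g_is_cokernel _ (cokernelIsCokernel _) }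
    let j : S₁.X₃ ⟶ G.obj S.X₃ := cokernel.desc (G.map S.f) (G.map S.g) (by rw [← G.map_comp, S.zero, G.map_zero])
    haveI : Mono j :=
      (S.map G).exact_iff_mono_cokernel_desc.1 (hS.exact.map_of_mono_of_preservesKernel G inferInstance inferInstance)
    obtain ⟨d, rfl⟩ := Ext.covariant_sequence_exact₁ _ hS (n₁ := 0 + 1) η (Ext.eq_zero_of_injective _) (n₀ := 0) rfl
    obtain ⟨d, rfl⟩ := (Ext.mk₀_bijective _ _).2 d
    have hd : adj.homEquiv X S.X₃ d ≫ cokernel.π j = 0 := by
      refine ha _ _ fun i => ?_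
      have h0 : (Ext.mk₀ (F.map (a i) ≫ d)).comp hS.extClass (zero_add 1) = 0 := by
        rw [← Ext.mk₀_comp_mk₀, Ext.comp_assoc_of_second_deg_zero]
        exact hη i
      obtain ⟨m, hm⟩ := Ext.covariant_sequence_exact₃ _ hS _ (n₁ := 1) (zero_add 1) h0
      obtain ⟨m, rfl⟩ := (Ext.mk₀_bijective _ _).2 m
      rw [Ext.mk₀_comp_mk₀] at hm
      have hm' : m ≫ S.g = F.map (a i) ≫ d := (Ext.mk₀_bijective _ _).1 hm
      have hg : G.map S.g = cokernel.π (G.map S.f) ≫ j := (cokernel.π_desc _ _ _).symm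
      rw [← Category.assoc, ← Adjunction.homEquiv_naturality_left, ← hm', Adjunction.homEquiv_naturality_right,
        Category.assoc, hg, Category.assoc, cokernel.condition, comp_zero, comp_zero]
    let d' : X ⟶ S₁.X₃ := Abelian.monoLift j _ hd
    have hd' : d' ≫ j = adj.homEquiv X S.X₃ d := Abelian.monoLift_comp _ _ _
    refine ⟨(Ext.mk₀ d').comp h₁.extClass (zero_add 1), ?_⟩
    let ψ : S₁.map F ⟶ S :=
      ⟨adj.counit.app S.X₁, adj.counit.app S.X₂, (adj.homEquiv _ _).symm j,
        (adj.counit.naturality S.f).symm, (by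
          show adj.counit.app S.X₂ ≫ S.g = F.map (cokernel.π (G.map S.f)) ≫ (adj.homEquiv _ _).symm j
          rw [← Adjunction.homEquiv_naturality_left_symm, cokernel.π_desc, Adjunction.homEquiv_counit]
          exact (adj.counit.naturality S.g).symm)⟩
    have hnat := (h₁.map_of_exact F).extClass_naturality hS ψ
    show (((Ext.mk₀ d').comp h₁.extClass _).mapExactFunctor F).comp (Ext.mk₀ (adj.counit.app S.X₁)) (add_zero 1) = _
    have e : F.map d' ≫ (adj.homEquiv _ _).symm j = d := by
      rw [← Adjunction.homEquiv_naturality_left_symm, hd', Equiv.symm_apply_apply]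
    rw [Ext.mapExactFunctor_comp, Ext.mapExactFunctor_mk₀, Ext.comp_assoc_of_third_deg_zero, ← e,
      ← Ext.mk₀_comp_mk₀, Ext.comp_assoc_of_second_deg_zero]
    erw [Ext.mapExactFunctor_extClass]
    exact congrArg (fun z => (Ext.mk₀ (F.map d')).comp z (zero_add 1)) hnat
  | succ k ih =>
    intro Y hY η hη
    let ip := (EnoughInjectives.presentation Y).some
    let S := ShortComplex.mk ip.f (cokernel.π ip.f) (cokernel.condition _)
    have hS : S.ShortExact := { exact := ShortComplex.exact_of_g_is_cokernel _ (cokernelIsCokernel _) }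
    have hG : (S.map G).ShortExact := RDerLib.map_shortExact hS
      ((RDerLib.epi_map_g_iff _).1 (RDerLib.epi_map_g hS 0 (hY 0 (by omega))))
    haveI : Injective S.X₂ := ip.injective
    have h₃ : ∀ q, q + 1 ≤ k → IsZero ((G.rightDerived (q + 1)).obj S.X₃) := fun q hq =>
      RDerLib.isZero_X₃ hS (q + 1) (hY (q + 1) (by omega)) (G.isZero_rightDerived_obj_injective_succ q S.X₂)
    obtain ⟨z, rfl⟩ := Ext.covariant_sequence_exact₁ _ hS (n₁ := k + 1 + 1) η (Ext.eq_zero_of_injective _) (n₀ := k + 1) rfl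
    obtain ⟨e, rfl⟩ := ih S.X₃ h₃ z fun i => by
      have h0 := hη i
      rw [← Ext.comp_assoc _ _ _ (zero_add (k + 1)) rfl (by omega)] at h0
      obtain ⟨m, hm⟩ := Ext.covariant_sequence_exact₃ _ hS _ rfl h0
      rw [← hm, Ext.eq_zero_of_injective m, Ext.zero_comp]
    exact ⟨e.comp hG.extClass rfl, (extAdj'_delta adj X hS hG e).symm⟩

end Generic

attribute [local instance] EtSliceLib.pullExact

variable {X Y : Scheme.{u}} (g : X ⟶ Y)

/-- The comparison of the free sheaves. -/
def freeCmp (W : Y.Etale) : (EtCoh.pull g).obj (free W) ⟶ free (bX g W) :=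
  ((EtCoh.pullPushAdj g).homEquiv _ _).symm (desc W (gen (bX g W)) : free W ⟶ (EtCoh.push g).obj (free (bX g W)))

theorem freeCmp_toConst (W : Y.Etale) :
    freeCmp g W ≫ toConst (bX g W) ≫ (EtCore.pullConst g ℤ).inv = (EtCoh.pull g).map (toConst W) := by
  apply ((EtCoh.pullPushAdj g).homEquiv _ _).injective
  rw [Adjunction.homEquiv_naturality_right, freeCmp, Equiv.apply_symm_apply, Adjunction.homEquiv_unit]
  refine Eq.trans ?_ ((EtCoh.pullPushAdj g).unit.naturality (toConst W))
  refine free_hom_ext W ?_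
  show ((EtCoh.push g).map (toConst (bX g W) ≫ (EtCore.pullConst g ℤ).inv)).hom.app (op W)
      ((desc W (gen (bX g W)) : free W ⟶ (EtCoh.push g).obj (free (bX g W))).hom.app (op W) (gen W)) =
    ((EtCoh.pullPushAdj g).unit.app (EtCoh.const Y ℤ)).hom.app (op W) ((toConst W).hom.app (op W) (gen W))
  rw [desc_gen]
  show (EtCore.pullConst g ℤ).inv.hom.app (op (bX g W))
      ((toConst (bX g W)).hom.app (op (bX g W)) (gen (bX g W))) = _
  unfold toConst
  rw [desc_gen, desc_gen]
  erw [NatTrans.naturality_apply ((EtCoh.pullPushAdj g).unit.app (EtCoh.const Y ℤ)).hom,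
    NatTrans.naturality_apply (EtCore.pullConst g ℤ).inv.hom]
  show ((EtCoh.pull g).obj (EtCoh.const Y ℤ)).obj.map ((EtCore.topIsTerminal X).from (bX g W)).op
      ((EtCore.gsec X).map (EtCore.pullConst g ℤ).inv (etOneSec X ⟨1⟩)) =
    ((EtCoh.pull g).obj (EtCoh.const Y ℤ)).obj.map ((EtCoh.bc g).map ((EtCore.topIsTerminal Y).from W)).op _
  rw [pullConst_inv_eq_etZ]
  erw [gsec_map_symm]
  show ((EtCoh.pull g).obj (EtCoh.const Y ℤ)).obj.map _
    (((EtCoh.pull g).obj (EtCoh.const Y ℤ)).obj.map (EtCore.bcTopIso g).inv.op _) = _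
  simp only [← ConcreteCategory.comp_apply, ← Functor.map_comp, ← op_comp]
  congr 3
  exact congrArg Quiver.Hom.op ((EtCore.bcTopIsTerminal g).hom_ext _ _)

theorem jointly_epi_toConst {ι : Type*} (W : ι → Y.Etale) (hcov : ∀ y : Y, ∃ i, y ∈ Set.range (W i).hom.base)
    (Z : EtCoh.Ab Y) (v : EtCoh.const Y ℤ ⟶ Z) (h : ∀ i, toConst (W i) ≫ v = 0) : v = 0 := by
  refine et_ext_Z _ _ ?_
  refine res_ext Z _ _ fun y => ?_
  obtain ⟨i, w, hw⟩ := hcov y
  refine ⟨W i, (EtCore.topIsTerminal Y).from (W i), ⟨w, ?_⟩, ?_⟩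
  · rw [show ((EtCore.topIsTerminal Y).from (W i)).left = (W i).hom from
      (Category.comp_id _).symm.trans (MorphismProperty.Over.w ((EtCore.topIsTerminal Y).from (W i)))]
    exact hw
  have h1 := congrArg (fun a : free (W i) ⟶ Z => a.hom.app (op (W i)) (gen (W i))) (h i)
  simp only [toConst] at h1
  refine ((NatTrans.naturality_apply v.hom _ _).symm.trans ?_).trans (map_zero _).symm
  refine Eq.trans ?_ h1
  show _ = v.hom.app (op (W i)) ((desc (W i) _).hom.app (op (W i)) (gen (W i)))
  rw [desc_gen]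

/-- A class on the source trivial locally on the target is in the range of pullback, for an acyclic morphism. -/
theorem mem_range_Hpull_of_locally_zero {L : Set ℕ} {k : ℕ} (hg : EtAcyc.IsAcyclicN g L k) {F : EtCoh.Ab Y}
    (hF : EtAcyc.IsLTorsion L F) (ξ : EtCoh.H X ((EtCoh.pull g).obj F) (k + 1))
    (hξ : ∀ y : Y, ∃ W : Y.Etale, y ∈ Set.range W.hom.base ∧
      Kills ((EtCoh.pull g).obj F) ξ (bX g W).hom) :
    ξ ∈ Set.range (EtCore.Hpull g F (k + 1)) := by
  have hS : ∀ W q, q ≤ k → Function.Bijective (etSys.Hmap F q (prOv g W)) := fun W q hq => by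
    haveI : PreservesFiniteLimits (EtCoh.pull (prOv g W).left) := EtSliceLib.pullExact _
    exact ((rng_Hmap_iff F k (prOv g W)).2 (hg W _ (EtAcycLib.isLTorsion_pull W hF))).1 q hq
  haveI hu : IsIso ((EtCoh.pullPushAdj g).unit.app F) := by
    haveI : IsIso ((sheafToPresheaf Y.smallEtaleTopology AddCommGrpCat.{u + 1}).map
        ((EtCoh.pullPushAdj g).unit.app F)) := by
      rw [NatTrans.isIso_iff_isIso_app]
      exact fun W => (ConcreteCategory.isIso_iff_bijective _).2
        (bijective_unit_app g (fun W => hS W 0 (Nat.zero_le k)) W.unop)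
    exact isIso_of_reflects_iso _ (sheafToPresheaf Y.smallEtaleTopology AddCommGrpCat.{u + 1})
  have hR : ∀ q, q + 1 ≤ k → IsZero (((EtCoh.push g).rightDerived (q + 1)).obj ((EtCoh.pull g).obj F)) := fun q hq =>
    isZero_Rpush_of_killed g q _ (killed_of_surj g F k hq fun W q hq => (hS W q hq).2)
  haveI : PreservesLimitsOfSize.{0, 0} (EtCoh.push g) := (EtCoh.pullPushAdj g).rightAdjoint_preservesLimits
  haveI : PreservesFiniteLimits (EtCoh.push g) := PreservesLimitsOfSize.preservesFiniteLimits _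
  haveI : PreservesFiniteColimits (EtCoh.pull g) :=
    haveI : PreservesColimitsOfSize.{0, 0} (EtCoh.pull g) := (EtCoh.pullPushAdj g).leftAdjoint_preservesColimits
    PreservesColimitsOfSize.preservesFiniteColimits _
  haveI : (EtCoh.push g).Additive := { }
  choose W hW hk using hξ
  let c := EtCore.pullConst g ℤ
  let η := (Ext.mk₀ c.hom).comp ξ (zero_add (k + 1))
  have hη : ∀ y, (Ext.mk₀ ((EtCoh.pull g).map (toConst (W y)))).comp η (zero_add (k + 1)) = 0 := fun y => by
    have h0 : (Ext.mk₀ (toConst (bX g (W y)))).comp ξ (zero_add (k + 1)) = 0 := by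
      refine (psi_bijective (bX g (W y)) (k + 1) _).1 ?_
      rw [map_zero, ← Hpull_eq_psi]
      exact hk y
    rw [Ext.mk₀_comp_mk₀_assoc, ← freeCmp_toConst, Category.assoc, Category.assoc, Iso.inv_hom_id, Category.comp_id,
      ← Ext.mk₀_comp_mk₀, Ext.comp_assoc_of_second_deg_zero, h0, Ext.comp_zero]
  obtain ⟨e, he⟩ := mem_range_of_locally_zero (EtCoh.pullPushAdj g) (EtCoh.const Y ℤ) (fun y => free (W y))
    (fun y => toConst (W y)) (fun Z v hv => jointly_epi_toConst W (fun y => ⟨y, hW y⟩) Z v hv) k _ hR η hη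
  obtain ⟨x, rfl⟩ := (bijective_mk₀_iso_postcomp (asIso ((EtCoh.pullPushAdj g).unit.app F)) (k + 1)).2 e
  refine ⟨x, ?_⟩
  show (Ext.mk₀ c.inv).comp (Ext.mapExactFunctor (EtCoh.pull g) x) (zero_add (k + 1)) = ξ
  rw [mapExact_eq_extAdj' (EtCoh.pullPushAdj g) x]
  refine (congrArg (fun t => (Ext.mk₀ c.inv).comp t (zero_add (k + 1))) he).trans ?_
  show (Ext.mk₀ c.inv).comp ((Ext.mk₀ c.hom).comp ξ _) _ = ξ
  rw [Ext.mk₀_comp_mk₀_assoc, Iso.inv_hom_id, Ext.mk₀_id_comp]

end EtAcycFibLib
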